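import Cfsg.Agent.H36.G168b
import Cfsg.Agent.S1012

/-! Simple groups of order 168: Klein four-subgroups. -/

set_option autoImplicit false
set_option linter.unusedSectionVars false

namespace Cfsg.Agent.H36

open MulAction Subgroup

theorem exists_klein {G : Type*} [Group G] {z t : G} (hz : orderOf z = 2) (ht : t * t = 1)
    (hc : t * z = z * t) (h : t ∉ zpowers z) :
    IsKleinFour (zpowers z ⊔ zpowers t : Subgroup G) := by
  have hz' := mul_self_of_orderOf hz
  have hn : t ∈ normalizer (zpowers z : Set G) := H42.mem_normalizer_zpowers_of_inverts (by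
    rw [hc, mul_inv_cancel_right, eq_inv_iff_mul_eq_one, hz'])
  have h2 : t * t ∈ zpowers z := ht ▸ one_mem _
  refine H42.isKleinFour_of_card (by rw [H42.card_sup_zpowers hn h2 h, Nat.card_zpowers, hz])
    fun g hg => ?_
  rw [H42.mem_sup_zpowers hn h2, H42.mem_zpowers_of_mul_self hz', H42.mem_zpowers_of_mul_self hz',
    mul_inv_eq_one, mul_inv_eq_iff_eq_mul] at hg
  rcases hg with (rfl | rfl) | rfl | rfl
  · exact one_mul 1
  · exact hz'
  · exact ht
  · rw [mul_assoc, ← mul_assoc t, hc, mul_assoc, ht, mul_one, hz']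

theorem klein_exists_ne {G : Type*} [Group G] {U : Subgroup G} (hU : IsKleinFour U) (x : G) :
    ∃ t ∈ U, t ≠ 1 ∧ t ≠ x := by
  obtain ⟨t, ht, h⟩ := SetLike.not_le_iff_exists.1 (H42.klein_not_le_zpowers hU x)
  exact ⟨t, ht, fun a => h (a ▸ one_mem _), fun a => h (a ▸ mem_zpowers _)⟩

theorem klein_le_cent {G : Type*} [Group G] {U : Subgroup G} (hU : IsKleinFour U) {t : G}
    (ht : t ∈ U) : U ≤ centralizer ({t} : Set G) := fun _ hg =>
  mem_centralizer_singleton_iff.2 (H42.klein_comm hU hg ht)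

theorem isKleinFour_map_conj {G : Type*} [Group G] {U : Subgroup G} (hU : IsKleinFour U) (g : G) :
    IsKleinFour (U.map (MulAut.conj g).toMonoidHom) := H42.isKleinFour_cj hU g

namespace G168

variable {G : Type*} [Group G] [Finite G] [IsSimpleGroup G]

theorem not_cent_le (h : Nat.card G = 168) {s t : G} (hs : orderOf s = 2) (ht : t * t = 1)
    (h1 : t ≠ 1) (hne : t ≠ s) : ¬ centralizer ({s} : Set G) ≤ centralizer ({t} : Set G) := by
  obtain ⟨u, hu, rfl⟩ := exists_sq_eq h hs
  intro hle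
  have := mem_centralizer_singleton_iff.1 (hle (zpowers_le_cent u (mem_zpowers u)))
  exact hne (eq_of_mem_zpowers_four hu
    (cent_four h hu ▸ mem_centralizer_singleton_iff.2 this.symm) ht h1)

theorem cent_le_norm (h : Nat.card G = 168) {U : Subgroup G} (hU : IsKleinFour U) {t : G}
    (ht : t ∈ U) (h1 : t ≠ 1) : centralizer ({t} : Set G) ≤ normalizer (U : Set G) :=
  le_normalizer_of_relIndex_two (klein_le_cent hU ht) (relIndex_eq_two (klein_le_cent hU ht)
    (by rw [cent_two h (orderOf_eq_two_of (H42.klein_mul_self hU ht) h1), hU.card_four]))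

theorem cent_inf_eq (h : Nat.card G = 168) {U : Subgroup G} (hU : IsKleinFour U) {s t : G}
    (hs : s ∈ U) (hs1 : s ≠ 1) (ht : t ∈ U) (ht1 : t ≠ 1) (hne : t ≠ s) :
    centralizer ({s} : Set G) ⊓ centralizer ({t} : Set G) = U := by
  have hs2 := orderOf_eq_two_of (H42.klein_mul_self hU hs) hs1
  refine (eq_of_le_of_card_ge (le_inf (klein_le_cent hU hs) (klein_le_cent hU ht)) ?_).symm
  have h1 := card_dvd_of_le
    (inf_le_left : centralizer ({s} : Set G) ⊓ centralizer ({t} : Set G) ≤ _)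
  have h2 : Nat.card (centralizer ({s} : Set G) ⊓ centralizer ({t} : Set G) : Subgroup G) ≠ 8 :=
    fun h2 => not_cent_le h hs2 (H42.klein_mul_self hU ht) ht1 hne (inf_eq_left.1
      (eq_of_le_of_card_ge inf_le_left (by rw [h2, cent_two h hs2])))
  rw [cent_two h hs2] at h1
  rw [hU.card_four]
  have h3 := Nat.le_of_dvd (by norm_num) h1
  generalize Nat.card (centralizer ({s} : Set G) ⊓ centralizer ({t} : Set G) : Subgroup G) = n at *
  interval_cases n <;> simp_all

theorem normalizer_ne_top (h : Nat.card G = 168) {U : Subgroup G} (h1 : Nat.card U ≠ 1)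
    (h2 : Nat.card U ≠ 168) : normalizer (U : Set G) ≠ ⊤ := fun ht => by
  rcases (normalizer_eq_top_iff.1 ht).eq_bot_or_eq_top with rfl | rfl
  · exact h1 card_bot
  · exact h2 (card_top.trans h)

theorem card_norm_klein (h : Nat.card G = 168) {U : Subgroup G} (hU : IsKleinFour U) :
    Nat.card (normalizer (U : Set G)) = 24 := by
  obtain ⟨s, hs, hs1, -⟩ := klein_exists_ne hU 1
  obtain ⟨t, ht, ht1, hne⟩ := klein_exists_ne hU s
  have hs2 := orderOf_eq_two_of (H42.klein_mul_self hU hs) hs1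
  have ht2 := orderOf_eq_two_of (H42.klein_mul_self hU ht) ht1
  have h1 := card_le h (normalizer_ne_top h (U := U) (by rw [hU.card_four]; norm_num)
    (by rw [hU.card_four]; norm_num))
  have h2 := card_dvd_of_le (cent_le_norm h hU hs hs1)
  have h3 : Nat.card (normalizer (U : Set G)) ≠ 8 := fun h3 => by
    refine not_cent_le h hs2 (H42.klein_mul_self hU ht) ht1 hne ?_
    rw [eq_of_le_of_card_ge (cent_le_norm h hU ht ht1) (by rw [h3, cent_two h ht2])]
    exact cent_le_norm h hU hs hs1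
  have h4 := card_subgroup_dvd_card (normalizer (U : Set G))
  rw [cent_two h hs2] at h2
  rw [h] at h4
  generalize Nat.card (normalizer (U : Set G)) = n at *
  interval_cases n <;> simp_all

theorem symm_of_card (h : Nat.card G = 168) {M : Subgroup G} (hM : Nat.card M = 24) :
    Nonempty (M ≃* Equiv.Perm (Fin 4)) :=
  S1012.result hM fun g hg => by
    rw [← orderOf_coe] at hg
    rcases orderOf_cases h (g : G) with h1 | h1 | h1 <;> simp [hg] at h1

theorem card_inf_zpowers (h : Nat.card G = 168) {u : G} (hu : orderOf u = 4) {U : Subgroup G}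
    (hU : IsKleinFour U) (hle : U ≤ centralizer ({u ^ 2} : Set G)) :
    Nat.card (U ⊓ zpowers u : Subgroup G) = 2 := by
  obtain ⟨t, ht, ht'⟩ := SetLike.not_le_iff_exists.1 (H42.klein_not_le_zpowers hU u)
  have := H42.card_eq_two_mul_card_inf (relIndex_four h hu) hle ht ht'
  rw [hU.card_four] at this
  omega

theorem sq_mem_klein (h : Nat.card G = 168) {u : G} (hu : orderOf u = 4) {U : Subgroup G}
    (hU : IsKleinFour U) (hle : U ≤ centralizer ({u ^ 2} : Set G)) : u ^ 2 ∈ U := by
  obtain ⟨w, hw, hw2⟩ := exists_orderOf_eq_of_dvd _ Nat.prime_two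
    (card_inf_zpowers h hu hU hle).symm.dvd
  exact eq_of_mem_zpowers_four hu hw.2 (mul_self_of_orderOf hw2)
    (ne_one_of_orderOf_prime Nat.prime_two hw2) ▸ hw.1

theorem sylow_le_norm (h : Nat.card G = 168) (T : Sylow 2 G) {U : Subgroup G}
    (hU : IsKleinFour U) (hle : U ≤ T) : (T : Subgroup G) ≤ normalizer (U : Set G) := by
  obtain ⟨u, hu, hT⟩ := exists_cent_eq h T
  rw [← hT] at hle ⊢
  exact cent_le_norm h hU (sq_mem_klein h hu hU hle)
    (ne_one_of_orderOf_prime Nat.prime_two (orderOf_sq_of_four hu))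

theorem count_klein (h : Nat.card G = 168) (T : Sylow 2 G) :
    Nat.card {U : Subgroup G // U ≤ (T : Subgroup G) ∧ IsKleinFour U} = 2 := by
  obtain ⟨u, hu, hT⟩ := exists_cent_eq h T
  have hz := orderOf_sq_of_four hu
  have hz1 := ne_one_of_orderOf_prime Nat.prime_two hz
  rw [← hT]
  have h1 := card_mem_not_mem (zpowers_le_cent u)
  rw [cent_two h hz, Nat.card_zpowers, hu] at h1
  have h2 := card_mul_eq_of_rel
    (fun (U : {U : Subgroup G // U ≤ centralizer ({u ^ 2} : Set G) ∧ IsKleinFour U})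
      (t : {g : G // g ∈ centralizer ({u ^ 2} : Set G) ∧ g ∉ zpowers u}) => t.1 ∈ U.1) 2 1
    (fun U => by
      have a1 := card_mem_not_mem (inf_le_left : U.1 ⊓ zpowers u ≤ U.1)
      rw [card_inf_zpowers h hu U.2.2 U.2.1, U.2.2.card_four] at a1
      refine Eq.trans (Nat.card_congr (β := {g : G // g ∈ U.1 ∧ g ∉ U.1 ⊓ zpowers u})
        ⟨fun t => ⟨t.1.1, t.2, fun a => t.1.2.2 a.2⟩,
          fun g => ⟨⟨g.1, U.2.1 g.2.1, fun a => g.2.2 ⟨g.2.1, a⟩⟩, g.2.1⟩,
          fun _ => rfl, fun _ => rfl⟩) (by omega))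
    (fun t => by
      have a1 := mul_self_of_not_mem h hu t.2.1 t.2.2
      have a2 : t.1 ≠ 1 := fun a => t.2.2 (a ▸ one_mem _)
      have a3 : t.1 ∉ zpowers (u ^ 2) := fun a =>
        t.2.2 (zpowers_le_of_mem (pow_mem (mem_zpowers u) 2) a)
      have a4 : t.1 ≠ u ^ 2 := fun a => a3 (by rw [a]; exact mem_zpowers _)
      rw [Nat.card_eq_one_iff_unique]
      refine ⟨⟨fun U W => Subtype.ext (Subtype.ext ?_)⟩, ⟨⟨⟨_, ?_, exists_klein hz a1
        (mem_centralizer_singleton_iff.1 t.2.1) a3⟩, mem_sup_right (mem_zpowers _)⟩⟩⟩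
      · exact (cent_inf_eq h U.1.2.2 (sq_mem_klein h hu U.1.2.2 U.1.2.1) hz1 U.2 a2 a4).symm.trans
          (cent_inf_eq h W.1.2.2 (sq_mem_klein h hu W.1.2.2 W.1.2.1) hz1 W.2 a2 a4)
      · exact sup_le (zpowers_le_of_mem (mem_centralizer_singleton_iff.2 rfl))
          (zpowers_le_of_mem t.2.1))
  omega

theorem klein_eq_of_conj (h : Nat.card G = 168) (T : Sylow 2 G) {U W : Subgroup G}
    (hUT : U ≤ T) (hWT : W ≤ T) (hU : IsKleinFour U) (hW : IsKleinFour W) {g : G}
    (hg : U.map (MulAut.conj g).toMonoidHom = W) : U = W := by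
  have h1 := H4.IsSylowIn.of_sylow_le T (sylow_le_norm h T hW hWT)
  obtain ⟨n, hn, h2⟩ := h1.exists_conj (g • T).isPGroup' (by
    rw [H4.coe_sylow_smul, ← hg, H4.normalizer_map_conj]
    exact map_mono (sylow_le_norm h T hU hUT))
  have h3 : n * g ∈ normalizer ((T : Subgroup G) : Set G) :=
    H4.mem_normalizer_of_conj_mem fun x hx => by
      have := h2 _ (H4.conj_mem_map_conj g hx)
      simpa only [mul_inv_rev, mul_assoc] using this
  rw [T.coe_coe, norm_two h] at h3
  have h4 := H4.map_conj_eq_iff.2 (sylow_le_norm h T hU hUT h3)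
  rw [← H4.map_conj_map_conj, hg, H4.map_conj_eq_iff.2 hn] at h4
  exact h4.symm

theorem klein_eq_of_norm_eq (h : Nat.card G = 168) {U W : Subgroup G} (hU : IsKleinFour U)
    (hW : IsKleinFour W) (hN : normalizer (U : Set G) = normalizer (W : Set G)) : U = W := by
  have key : ∀ t ∈ U, t ≠ 1 → W ≤ centralizer ({t} : Set G) := fun t ht h1 => by
    obtain ⟨T, hT⟩ := exists_sylow_of_card h
      (cent_two h (orderOf_eq_two_of (H42.klein_mul_self hU ht) h1))
    have a1 : (T : Subgroup G) ≤ normalizer (W : Set G) := hT ▸ hN ▸ cent_le_norm h hU ht h1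
    have a2 : IsPGroup 2 W := IsPGroup.of_card (n := 2) hW.card_four
    rw [← hT, ← T.is_maximal' (IsPGroup.to_sup_of_normal_left' a2 T.isPGroup' a1) le_sup_right]
    exact le_sup_left
  obtain ⟨s, hs, hs1, -⟩ := klein_exists_ne hU 1
  obtain ⟨t, ht, ht1, hne⟩ := klein_exists_ne hU s
  refine (eq_of_le_of_card_ge ?_ (by rw [hU.card_four, hW.card_four])).symm
  rw [← cent_inf_eq h hU hs hs1 ht ht1 hne]
  exact le_inf (key s hs hs1) (key t ht ht1)

end G168

end Cfsg.Agent.H36
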