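import Cfsg.Agent.H36.Central
import Cfsg.Agent.H42.Index2

/-! Simple groups of order 168: Sylow numbers and element orders. -/

set_option autoImplicit false
set_option linter.unusedSectionVars false

namespace Cfsg.Agent.H36

open MulAction Subgroup

theorem card_mem_not_mem {G : Type*} [Group G] [Finite G] {H K : Subgroup G} (h : H ≤ K) :
    Nat.card {g : G // g ∈ K ∧ g ∉ H} + Nat.card H = Nat.card K := by
  have h1 := card_subtype_or (p := fun g => g ∈ K ∧ g ∉ H) (q := fun g => g ∈ H)
    (fun a ha => ha.2)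
  refine h1.symm.trans (Nat.card_congr (Equiv.subtypeEquivRight fun g => ?_))
  by_cases hg : g ∈ H
  · simp [hg, h hg]
  · simp [hg]

theorem orderOf_dvd_card_centralizer_pow {G : Type*} [Group G] (g : G) (k : ℕ) :
    orderOf g ∣ Nat.card (centralizer ({g ^ k} : Set G)) :=
  Subgroup.orderOf_dvd_natCard _ (mem_centralizer_singleton_iff.2 (Commute.self_pow g k))

namespace G168

variable {G : Type*} [Group G] [Finite G] [IsSimpleGroup G]

theorem perf (h : Nat.card G = 168) : commutator G = ⊤ :=
  commutator_eq_top_of_simple (by rw [h]; norm_num)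

theorem card_le (h : Nat.card G = 168) {H : Subgroup G} (hH : H ≠ ⊤) : Nat.card H ≤ 24 := by
  have h1 := prime_le_index hH (p := 7) (by norm_num) (by rw [h]; norm_num)
  have h2 := H.card_mul_index
  rw [h] at h2
  nlinarith

theorem card_seven [Fact (Nat.Prime 7)] (h : Nat.card G = 168) (P : Sylow 7 G) :
    Nat.card (P : Subgroup G) = 7 := card_sylow_eq_prime P (m := 24) h (by norm_num)

theorem card_three [Fact (Nat.Prime 3)] (h : Nat.card G = 168) (P : Sylow 3 G) :
    Nat.card (P : Subgroup G) = 3 := card_sylow_eq_prime P (m := 56) h (by norm_num)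

theorem card_two (h : Nat.card G = 168) (P : Sylow 2 G) :
    Nat.card (P : Subgroup G) = 8 := card_sylow_eq P (k := 3) (m := 21) h (by norm_num)

theorem n_seven [Fact (Nat.Prime 7)] (h : Nat.card G = 168) : Nat.card (Sylow 7 G) = 8 := by
  obtain ⟨P⟩ : Nonempty (Sylow 7 G) := inferInstance
  have hP := card_seven h P
  have h1 := card_sylow_dvd P (m := 24) (by rw [hP, h])
  have h2 := card_sylow_mod (p := 7) (G := G)
  have h3 := card_sylow_ne_one P (by rw [hP]; norm_num) (by rw [hP, h]; norm_num)
  have h4 := Nat.le_of_dvd (by norm_num) h1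
  generalize Nat.card (Sylow 7 G) = n at *
  interval_cases n <;> simp_all

theorem norm_seven [Fact (Nat.Prime 7)] (h : Nat.card G = 168) (P : Sylow 7 G) :
    Nat.card (normalizer (P : Set G)) = 21 := by
  have := card_sylow_mul_card_normalizer P
  rw [n_seven h, h] at this
  omega

theorem cent_seven (h : Nat.card G = 168) {x : G} (hx : orderOf x = 7) :
    Nat.card (centralizer ({x} : Set G)) = 7 := by
  have : Fact (Nat.Prime 7) := ⟨by norm_num⟩
  obtain ⟨P⟩ : Nonempty (Sylow 7 G) := inferInstance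
  obtain ⟨Q, hQ⟩ := exists_sylow_eq_zpowers P (card_seven h P) hx
  obtain ⟨e, c, h1, h2, h3, h4⟩ := exists_card_normalizer_eq (perf h) Q (card_seven h Q)
  rw [norm_seven h] at h4
  rw [← centralizer_zpowers, hQ, Q.coe_coe, h3]
  have h5 := Nat.le_of_dvd (by norm_num) h1
  interval_cases e <;> omega

theorem orderOf_eq_seven (h : Nat.card G = 168) {g : G} (hg : 7 ∣ orderOf g) :
    orderOf g = 7 := by
  obtain ⟨k, hk⟩ := exists_pow_orderOf_eq hg
  have := orderOf_dvd_card_centralizer_pow g k
  rw [cent_seven h hk] at this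
  exact Nat.dvd_antisymm this hg

theorem n_three [Fact (Nat.Prime 3)] (h : Nat.card G = 168) : Nat.card (Sylow 3 G) = 28 := by
  have : Fact (Nat.Prime 7) := ⟨by norm_num⟩
  obtain ⟨P⟩ : Nonempty (Sylow 3 G) := inferInstance
  have hP := card_three h P
  have h1 := card_sylow_dvd P (m := 56) (by rw [hP, h])
  have h2 := card_sylow_mod (p := 3) (G := G)
  have h3 := card_sylow_ne_one P (by rw [hP]; norm_num) (by rw [hP, h]; norm_num)
  have h4 : Nat.card (Sylow 3 G) ≠ 4 := fun h4 => by
    have := faithful_sylow h3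
    have h5 := card_dvd_factorial (G := G) (X := Sylow 3 G)
    rw [h4, h] at h5
    norm_num [Nat.factorial] at h5
  have h5 : Nat.card (Sylow 3 G) ≠ 7 := fun h5 => by
    have a1 := card_orderOf_eq_prime P hP
    rw [h5] at a1
    obtain ⟨y, -, hy, -⟩ := exists_generator_prime hP
    have := faithful_sylow (p := 7) (G := G) (by rw [n_seven h]; norm_num)
    refine ne_one_of_orderOf_prime Nat.prime_three hy
      (eq_of_smul_eq_smul fun Q : Sylow 7 G => ?_)
    rw [one_smul, Sylow.smul_eq_iff_mem_normalizer]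
    have a2 := card_mem_not_mem (le_normalizer : (Q : Subgroup G) ≤ _)
    rw [card_seven h, Q.coe_coe, norm_seven h] at a2
    refine (of_card_subtype_le (p := fun g => g ∈ normalizer (Q : Set G) ∧ g ∉ (Q : Subgroup G))
      (q := fun g => orderOf g = 3) (fun g hg => ?_) (by omega) y hy).1
    have a3 := Subgroup.orderOf_dvd_natCard _ hg.1
    rw [norm_seven h] at a3
    have a4 : ¬ orderOf g ∣ 7 := fun a4 =>
      hg.2 (mem_sylow_of_mem_normalizer Q (k := 1) (by
        rw [pow_one]; exact orderOf_dvd_iff_pow_eq_one.1 a4) hg.1)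
    have a5 : ¬ 7 ∣ orderOf g := fun a5 => a4 (orderOf_eq_seven h a5 ▸ dvd_rfl)
    have a6 := Nat.le_of_dvd (by norm_num) a3
    generalize orderOf g = o at *
    interval_cases o <;> simp_all
  have h6 := Nat.le_of_dvd (by norm_num) h1
  generalize Nat.card (Sylow 3 G) = n at *
  interval_cases n <;> simp_all

theorem norm_three [Fact (Nat.Prime 3)] (h : Nat.card G = 168) (P : Sylow 3 G) :
    Nat.card (normalizer (P : Set G)) = 6 := by
  have := card_sylow_mul_card_normalizer P
  rw [n_three h, h] at this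
  omega

theorem cent_three (h : Nat.card G = 168) {x : G} (hx : orderOf x = 3) :
    Nat.card (centralizer ({x} : Set G)) = 3 := by
  have : Fact (Nat.Prime 3) := ⟨by norm_num⟩
  obtain ⟨P⟩ : Nonempty (Sylow 3 G) := inferInstance
  obtain ⟨Q, hQ⟩ := exists_sylow_eq_zpowers P (card_three h P) hx
  obtain ⟨e, c, h1, h2, h3, h4⟩ := exists_card_normalizer_eq (perf h) Q (card_three h Q)
  rw [norm_three h] at h4
  rw [← centralizer_zpowers, hQ, Q.coe_coe, h3]
  have h5 := Nat.le_of_dvd (by norm_num) h1
  interval_cases e <;> omega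

theorem orderOf_eq_three (h : Nat.card G = 168) {g : G} (hg : 3 ∣ orderOf g) :
    orderOf g = 3 := by
  obtain ⟨k, hk⟩ := exists_pow_orderOf_eq hg
  have := orderOf_dvd_card_centralizer_pow g k
  rw [cent_three h hk] at this
  exact Nat.dvd_antisymm this hg

omit [Finite G] [IsSimpleGroup G] in
theorem dvd_eight {n : ℕ} (h : n ∣ 168) (h3 : ¬ 3 ∣ n) (h7 : ¬ 7 ∣ n) : n ∣ 8 :=
  Nat.Coprime.dvd_of_dvd_mul_left (k := n) (m := 21) (n := 8)
    (Nat.Coprime.mul_right (m := 3) (n := 7)
      ((Nat.Prime.coprime_iff_not_dvd Nat.prime_three).2 h3).symm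
      ((Nat.Prime.coprime_iff_not_dvd (by norm_num)).2 h7).symm) h

theorem orderOf_cases (h : Nat.card G = 168) (g : G) :
    orderOf g = 3 ∨ orderOf g = 7 ∨ orderOf g ∣ 8 := by
  by_cases h3 : 3 ∣ orderOf g
  · exact .inl (orderOf_eq_three h h3)
  by_cases h7 : 7 ∣ orderOf g
  · exact .inr (.inl (orderOf_eq_seven h h7))
  exact .inr (.inr (dvd_eight (h ▸ orderOf_dvd_natCard g) h3 h7))

theorem count_three (h : Nat.card G = 168) : Nat.card {g : G // orderOf g = 3} = 56 := by
  have : Fact (Nat.Prime 3) := ⟨by norm_num⟩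
  obtain ⟨P⟩ : Nonempty (Sylow 3 G) := inferInstance
  rw [card_orderOf_eq_prime P (card_three h P), n_three h]

theorem count_seven (h : Nat.card G = 168) : Nat.card {g : G // orderOf g = 7} = 48 := by
  have : Fact (Nat.Prime 7) := ⟨by norm_num⟩
  obtain ⟨P⟩ : Nonempty (Sylow 7 G) := inferInstance
  rw [card_orderOf_eq_prime P (card_seven h P), n_seven h]

theorem count_two_elements (h : Nat.card G = 168) :
    Nat.card {g : G // orderOf g ∣ 8 ∧ g ≠ 1} = 63 := by
  have h1 := card_subtype_or (p := fun g : G => orderOf g = 3) (q := fun g => orderOf g = 7)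
    (fun a ha => by omega)
  have h2 := card_subtype_or (p := fun g : G => orderOf g = 3 ∨ orderOf g = 7)
    (q := fun g => orderOf g ∣ 8 ∧ g ≠ 1)
    (fun a ha hb => by rcases ha with ha | ha <;> simp [ha] at hb)
  have h3 := card_ne_one (⊤ : Subgroup G)
  rw [card_top, h] at h3
  rw [h1, count_three h, count_seven h, Nat.card_congr (Equiv.subtypeEquivRight
    (q := fun g => g ∈ (⊤ : Subgroup G) ∧ g ≠ 1) fun g => ?_), h3] at h2
  · omega
  · simp only [mem_top, true_and]
    constructor
    · rintro ((h | h) | h)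
      · rintro rfl; simp at h
      · rintro rfl; simp at h
      · exact h.2
    · intro hg
      rcases orderOf_cases h g with h | h | h
      · exact .inl (.inl h)
      · exact .inl (.inr h)
      · exact .inr ⟨h, hg⟩

theorem n_two (h : Nat.card G = 168) : Nat.card (Sylow 2 G) = 21 := by
  obtain ⟨P⟩ : Nonempty (Sylow 2 G) := inferInstance
  have h1 := card_sylow_dvd P (m := 21) (by rw [card_two h, h])
  have h2 := card_mul_le_of_rel (fun (g : {g : G // orderOf g ∣ 8 ∧ g ≠ 1}) (T : Sylow 2 G) =>
    g.1 ∈ (T : Subgroup G)) 1 7 (fun g => by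
      obtain ⟨T, hT⟩ := exists_sylow_mem (p := 2) (k := 3) (orderOf_dvd_iff_pow_eq_one.1 g.2.1)
      have : Nonempty {T : Sylow 2 G // g.1 ∈ (T : Subgroup G)} := ⟨⟨T, hT⟩⟩
      exact Nat.card_pos) (fun T => by
      have a1 := card_ne_one (T : Subgroup G)
      rw [card_two h] at a1
      refine le_trans (Nat.card_le_card_of_injective
        (β := {g : G // g ∈ (T : Subgroup G) ∧ g ≠ 1}) (fun g => ⟨g.1.1, g.2, g.1.2.2⟩)
        fun a b hab => Subtype.ext (Subtype.ext (congrArg Subtype.val hab :))) a1.le)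
  rw [count_two_elements h] at h2
  have h6 := Nat.le_of_dvd (by norm_num) h1
  generalize Nat.card (Sylow 2 G) = n at *
  interval_cases n <;> simp_all

theorem norm_two (h : Nat.card G = 168) (T : Sylow 2 G) : normalizer (T : Set G) = T := by
  have := card_sylow_mul_card_normalizer T
  rw [n_two h, h] at this
  refine (eq_of_le_of_card_ge le_normalizer ?_).symm
  rw [card_two h, T.coe_coe]
  omega

theorem not_comm_two (h : Nat.card G = 168) (T : Sylow 2 G) :
    ¬ (T : Subgroup G) ≤ centralizer (T : Set G) := by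
  have := not_normalizer_le_centralizer (perf h) T (by rw [card_two h]; norm_num)
  rwa [norm_two h] at this

theorem cent_dvd_eight (h : Nat.card G = 168) {g : G} (hg : orderOf g ∣ 8) (h1 : g ≠ 1) :
    Nat.card (centralizer ({g} : Set G)) ∣ 8 := by
  have key : ∀ q : ℕ, q.Prime → (∀ x : G, orderOf x = q →
      Nat.card (centralizer ({x} : Set G)) = q) → q ≠ 2 →
      ¬ q ∣ Nat.card (centralizer ({g} : Set G)) := by
    intro q hq hc h2 hd
    obtain ⟨x, hx, hxq⟩ := exists_orderOf_eq_of_dvd _ hq hd
    have a1 : g ∈ centralizer ({x} : Set G) :=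
      mem_centralizer_singleton_iff.2 (mem_centralizer_singleton_iff.1 hx).symm
    have a2 := Subgroup.orderOf_dvd_natCard _ a1
    rw [hc x hxq] at a2
    rcases (Nat.dvd_prime hq).1 a2 with a3 | a3
    · exact h1 (orderOf_eq_one_iff.1 a3)
    · rw [a3] at hg
      exact h2 ((Nat.prime_dvd_prime_iff_eq hq Nat.prime_two).1 (hq.dvd_of_dvd_pow (n := 3) hg))
  exact dvd_eight (h ▸ card_subgroup_dvd_card _)
    (key 3 (by norm_num) (fun x => cent_three h) (by norm_num))
    (key 7 (by norm_num) (fun x => cent_seven h) (by norm_num))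

theorem cent_eq_of_le (h : Nat.card G = 168) (T : Sylow 2 G) {z : G} (hz : z ∈ (T : Subgroup G))
    (h1 : z ≠ 1) (hc : (T : Subgroup G) ≤ centralizer ({z} : Set G)) :
    centralizer ({z} : Set G) = T := by
  refine (eq_of_le_of_card_ge hc ?_).symm
  rw [card_two h]
  exact Nat.le_of_dvd (by norm_num) (cent_dvd_eight h
    (card_two h T ▸ Subgroup.orderOf_dvd_natCard _ hz) h1)

end G168

end Cfsg.Agent.H36
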