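import Cfsg.Agent.H36.G168
import Cfsg.Agent.H9.QuatHom

/-! Simple groups of order 168: 2-elements, conjugacy classes, the Sylow 2-subgroup. -/

set_option autoImplicit false
set_option linter.unusedSectionVars false

namespace Cfsg.Agent.H36

open MulAction Subgroup

theorem eq_of_mem_zpowers_four {G : Type*} [Group G] {u w : G} (hu : orderOf u = 4)
    (hw : w ∈ zpowers u) (h2 : w * w = 1) (h1 : w ≠ 1) : w = u ^ 2 := by
  have a1 := H42.mem_zpowers_pow_of_pow_eq_one (d := 2) (e := 2) (by norm_num) hu hw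
    (by rw [sq, h2])
  have a2 : u ^ 2 * u ^ 2 = 1 := by
    rw [← pow_add, ← orderOf_dvd_iff_pow_eq_one, hu]
  exact ((H42.mem_zpowers_of_mul_self a2).1 a1).resolve_left h1

theorem orderOf_sq_of_four {G : Type*} [Group G] {u : G} (hu : orderOf u = 4) :
    orderOf (u ^ 2) = 2 := H42.orderOf_pow_of_eq_mul (d := 2) (e := 2) (by norm_num) hu

theorem relIndex_eq_two {G : Type*} [Group G] [Finite G] {H K : Subgroup G} (h : H ≤ K)
    (hc : Nat.card K = 2 * Nat.card H) : H.relIndex K = 2 :=
  Nat.eq_of_mul_eq_mul_right Nat.card_pos ((relIndex_mul_card h).trans hc)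

theorem le_normalizer_of_relIndex_two {G : Type*} [Group G] [Finite G] {H K : Subgroup G}
    (h : H ≤ K) (h2 : H.relIndex K = 2) : K ≤ normalizer (H : Set G) := fun _ hg =>
  H4.mem_normalizer_of_conj_mem fun _ hx => (H42.conj_mem_iff_of_relIndex_two h2 hg (h hx)).2 hx

theorem mul_self_of_orderOf {G : Type*} [Group G] {t : G} (ht : orderOf t = 2) : t * t = 1 := by
  rw [← sq, ← ht]; exact pow_orderOf_eq_one t

theorem orderOf_eq_two_of {G : Type*} [Group G] {t : G} (h2 : t * t = 1) (h1 : t ≠ 1) :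
    orderOf t = 2 := orderOf_eq_prime (by rw [sq, h2]) h1

namespace G168

variable {G : Type*} [Group G] [Finite G] [IsSimpleGroup G]

theorem exists_sylow_of_card (h : Nat.card G = 168) {H : Subgroup G} (hH : Nat.card H = 8) :
    ∃ T : Sylow 2 G, (T : Subgroup G) = H := by
  have : IsPGroup 2 H := IsPGroup.of_card (n := 3) hH
  obtain ⟨T, hT⟩ := this.exists_le_sylow
  exact ⟨T, (eq_of_le_of_card_ge hT (by rw [hH, card_two h])).symm⟩

theorem exists_central (h : Nat.card G = 168) (T : Sylow 2 G) :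
    ∃ z ∈ (T : Subgroup G), orderOf z = 2 ∧ centralizer ({z} : Set G) = T := by
  have : Nontrivial (T : Subgroup G) := by
    rw [← Finite.one_lt_card_iff_nontrivial, card_two h]; norm_num
  have := T.isPGroup'.center_nontrivial
  obtain ⟨⟨c, hc⟩, hc1⟩ := exists_ne (1 : center (T : Subgroup G))
  have a1 : (c : G) ≠ 1 := fun a => hc1 (Subtype.ext (Subtype.ext a))
  have a2 : (c : G) ^ 2 ^ 3 = 1 := orderOf_dvd_iff_pow_eq_one.1
    ((Subgroup.orderOf_dvd_natCard _ c.2).trans (by rw [card_two h]; norm_num))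
  obtain ⟨j, hj⟩ := exists_involution_pow a2 a1
  refine ⟨c ^ j, pow_mem c.2 j, hj, cent_eq_of_le h T (pow_mem c.2 j)
    (ne_one_of_orderOf_prime Nat.prime_two hj) fun t ht => ?_⟩
  have a3 : Commute t (c : G) := congrArg Subtype.val (mem_center_iff.1 hc ⟨t, ht⟩)
  exact mem_centralizer_singleton_iff.2 (a3.pow_right j)

theorem cent_four (h : Nat.card G = 168) {u : G} (hu : orderOf u = 4) :
    centralizer ({u} : Set G) = zpowers u := by
  have hle : zpowers u ≤ centralizer ({u} : Set G) :=
    zpowers_le_of_mem (mem_centralizer_singleton_iff.2 rfl)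
  have h1 := cent_dvd_eight h (g := u) (by rw [hu]; norm_num) (by rintro rfl; simp at hu)
  have h2 := card_dvd_of_le hle
  rw [Nat.card_zpowers, hu] at h2
  have h3 : Nat.card (centralizer ({u} : Set G)) ≠ 8 := fun h3 => by
    obtain ⟨T, hT⟩ := exists_sylow_of_card h h3
    have a1 := relIndex_eq_two hle (by rw [h3, Nat.card_zpowers, hu])
    have a2 : ∀ a ∈ zpowers u, ∀ b ∈ centralizer ({u} : Set G), a * b = b * a := by
      intro a ha b hb
      rw [← centralizer_zpowers] at hb
      exact hb a ha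
    refine not_comm_two h T fun a ha b hb => ?_
    rw [← T.coe_coe, hT] at hb
    rw [hT] at ha
    by_cases ha' : a ∈ zpowers u
    · exact (a2 a ha' b hb).symm
    by_cases hb' : b ∈ zpowers u
    · exact a2 b hb' a ha
    have a3 := a2 _ (H42.mul_inv_mem_of_relIndex_two a1 ha hb ha' hb') b hb
    calc b * a = b * (a * b⁻¹) * b := by group
      _ = a * b := by rw [← a3]; group
  refine (eq_of_le_of_card_ge hle ?_).symm
  rw [Nat.card_zpowers, hu]
  have h4 := Nat.le_of_dvd (by norm_num) h1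
  generalize Nat.card (centralizer ({u} : Set G)) = n at *
  interval_cases n <;> simp_all

theorem orderOf_ne_eight (h : Nat.card G = 168) (g : G) : orderOf g ≠ 8 := fun hg => by
  obtain ⟨T, hT⟩ := exists_sylow_of_card h (H := zpowers g) (by rw [Nat.card_zpowers, hg])
  refine not_comm_two h T fun a ha b hb => ?_
  rw [← T.coe_coe, hT] at hb
  rw [hT] at ha
  exact H42.comm_of_mem_zpowers hb ha

theorem orderOf_cases_two (h : Nat.card G = 168) {g : G} (hg : orderOf g ∣ 8) :
    g = 1 ∨ orderOf g = 2 ∨ orderOf g = 4 := by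
  rw [← orderOf_eq_one_iff]
  have h1 := orderOf_ne_eight h g
  have h2 := Nat.le_of_dvd (by norm_num) hg
  generalize orderOf g = n at *
  interval_cases n <;> simp_all

theorem exists_four (h : Nat.card G = 168) (T : Sylow 2 G) :
    ∃ u ∈ (T : Subgroup G), orderOf u = 4 := by
  by_contra hcon
  push Not at hcon
  have key : ∀ a ∈ (T : Subgroup G), a⁻¹ = a := fun a ha => by
    rcases orderOf_cases_two h (card_two h T ▸ Subgroup.orderOf_dvd_natCard _ ha) with h1 | h1 | h1
    · rw [h1, inv_one]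
    · exact inv_eq_of_mul_eq_one_right (mul_self_of_orderOf h1)
    · exact absurd h1 (hcon a ha)
  refine not_comm_two h T fun a ha b hb => ?_
  rw [← key _ (mul_mem hb ha), mul_inv_rev, key a ha, key b hb]

theorem class_four (h : Nat.card G = 168) {u : G} (hu : orderOf u = 4) :
    Nat.card {g : G // IsConj u g} = 42 := by
  have := card_isConj_mul_card_centralizer u
  rw [cent_four h hu, Nat.card_zpowers, hu, h] at this
  omega

theorem counts (h : Nat.card G = 168) : Nat.card {g : G // orderOf g = 2} = 21 ∧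
    Nat.card {g : G // orderOf g = 4} = 42 ∧
    (∀ s t : G, orderOf s = 2 → orderOf t = 2 → IsConj s t) ∧
    ∀ s t : G, orderOf s = 4 → orderOf t = 4 → IsConj s t := by
  obtain ⟨T⟩ : Nonempty (Sylow 2 G) := inferInstance
  obtain ⟨z, -, hz, hzT⟩ := exists_central h T
  obtain ⟨u, -, hu⟩ := exists_four h T
  have h1 := class_four h hu
  have h2 := card_isConj_mul_card_centralizer z
  rw [hzT, card_two h, h] at h2
  have h3 := card_subtype_mono (p := fun g => IsConj z g) (q := fun g => orderOf g = 2)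
    fun g hg => (orderOf_eq_of_isConj hg).trans hz
  have h4 := card_subtype_mono (p := fun g => IsConj u g) (q := fun g => orderOf g = 4)
    fun g hg => (orderOf_eq_of_isConj hg).trans hu
  have h5 := card_subtype_or (p := fun g : G => orderOf g = 2) (q := fun g => orderOf g = 4)
    fun a ha => by simp [ha]
  have h6 := card_subtype_mono (p := fun g : G => orderOf g = 2 ∨ orderOf g = 4)
    (q := fun g => orderOf g ∣ 8 ∧ g ≠ 1) fun g hg => by
      rcases hg with hg | hg <;> exact ⟨by simp [hg], by rintro rfl; simp at hg⟩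
  rw [count_two_elements h] at h6
  have h7 := of_card_subtype_le (p := fun g => IsConj z g) (q := fun g => orderOf g = 2)
    (fun g hg => (orderOf_eq_of_isConj hg).trans hz) (by omega)
  refine ⟨by omega, by omega, fun s t hs ht => (h7 s hs).symm.trans (h7 t ht), fun s t hs ht => ?_⟩
  exact of_card_subtype_le (p := fun g => IsConj s g) (q := fun g => orderOf g = 4)
    (fun g hg => (orderOf_eq_of_isConj hg).trans hs) (by rw [class_four h hs]; omega) t ht

theorem cent_two (h : Nat.card G = 168) {t : G} (ht : orderOf t = 2) :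
    Nat.card (centralizer ({t} : Set G)) = 8 := by
  have h1 := card_isConj_mul_card_centralizer t
  rw [Nat.card_congr (Equiv.subtypeEquivRight (q := fun g => orderOf g = 2) fun g =>
    ⟨fun hg => (orderOf_eq_of_isConj hg).trans ht, (counts h).2.2.1 t g ht⟩), (counts h).1, h] at h1
  omega

theorem zpowers_le_cent (u : G) : zpowers u ≤ centralizer ({u ^ 2} : Set G) :=
  zpowers_le_of_mem (mem_centralizer_singleton_iff.2 (Commute.self_pow u 2))

theorem relIndex_four (h : Nat.card G = 168) {u : G} (hu : orderOf u = 4) :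
    (zpowers u).relIndex (centralizer ({u ^ 2} : Set G)) = 2 :=
  relIndex_eq_two (zpowers_le_cent u)
    (by rw [cent_two h (orderOf_sq_of_four hu), Nat.card_zpowers, hu])

/-- Elements of `C(u²)` outside `⟨u⟩` are involutions. -/
theorem mul_self_of_not_mem (h : Nat.card G = 168) {u s : G} (hu : orderOf u = 4)
    (hs : s ∈ centralizer ({u ^ 2} : Set G)) (hs' : s ∉ zpowers u) : s * s = 1 := by
  have h2 := relIndex_four h hu
  rcases orderOf_cases_two h (cent_two h (orderOf_sq_of_four hu) ▸
    Subgroup.orderOf_dvd_natCard _ hs) with h1 | h1 | h1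
  · rw [h1, one_mul]
  · exact mul_self_of_orderOf h1
  exfalso
  have a1 := orderOf_sq_of_four h1
  have a2 : s ^ 2 = u ^ 2 := eq_of_mem_zpowers_four hu
    (by rw [sq, H42.mul_mem_iff_of_relIndex_two h2 hs hs]) (mul_self_of_orderOf a1)
    (ne_one_of_orderOf_prime Nat.prime_two a1)
  obtain ⟨g, rfl⟩ := isConj_iff.1 ((counts h).2.2.2 u s hu h1)
  have a3 : g ∈ centralizer ({u ^ 2} : Set G) := by
    rw [mem_centralizer_singleton_iff, ← mul_inv_eq_iff_eq_mul, ← conj_pow, a2]
  exact hs' ((H42.conj_mem_iff_of_relIndex_two h2 a3 (zpowers_le_cent u (mem_zpowers u))).2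
    (mem_zpowers u))

theorem exists_sq_eq (h : Nat.card G = 168) {z : G} (hz : orderOf z = 2) :
    ∃ u : G, orderOf u = 4 ∧ u ^ 2 = z := by
  obtain ⟨T⟩ : Nonempty (Sylow 2 G) := inferInstance
  obtain ⟨u, -, hu⟩ := exists_four h T
  obtain ⟨g, rfl⟩ := isConj_iff.1 ((counts h).2.2.1 _ z (orderOf_sq_of_four hu) hz)
  exact ⟨g * u * g⁻¹, (orderOf_conj' g u).trans hu, conj_pow⟩

theorem exists_cent_eq (h : Nat.card G = 168) (T : Sylow 2 G) :
    ∃ u : G, orderOf u = 4 ∧ centralizer ({u ^ 2} : Set G) = T := by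
  obtain ⟨z, -, hz, hzT⟩ := exists_central h T
  obtain ⟨u, hu, rfl⟩ := exists_sq_eq h hz
  exact ⟨u, hu, hzT⟩

theorem dihedral (h : Nat.card G = 168) (T : Sylow 2 G) :
    Nonempty ((T : Subgroup G) ≃* DihedralGroup 4) := by
  obtain ⟨u, hu, hT⟩ := exists_cent_eq h T
  have hle := zpowers_le_cent u
  obtain ⟨s, hs, hs'⟩ : ∃ s ∈ centralizer ({u ^ 2} : Set G), s ∉ zpowers u := by
    by_contra hcon
    push Not at hcon
    have := relIndex_four h hu
    rw [relIndex_eq_one.2 hcon] at this
    omega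
  have h1 := mul_self_of_not_mem h hu hs hs'
  have h2 := mul_self_of_not_mem h hu (mul_mem hs (hle (mem_zpowers u)))
    (fun a => hs' ((Subgroup.mul_mem_cancel_right _ (mem_zpowers u)).1 a))
  have h3 : s * u * s⁻¹ = u⁻¹ := by
    rw [inv_eq_of_mul_eq_one_right h1, eq_inv_iff_mul_eq_one, mul_assoc (s * u), h2]
  obtain ⟨D, -, -, hD, hc, he⟩ := H9.exists_subgroup_dihedral (by norm_num) u s hu h1 h3 hs'
  have h4 : D = T := by
    refine eq_of_le_of_card_ge (hD.trans ?_) (by rw [hc, card_two h])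
    rw [← hT, closure_le, Set.insert_subset_iff, Set.singleton_subset_iff]
    exact ⟨hle (mem_zpowers u), hs⟩
  exact h4 ▸ he

theorem not_isConj_inv (h : Nat.card G = 168) {x : G} (hx : orderOf x = 7) : ¬ IsConj x x⁻¹ := by
  have : Fact (Nat.Prime 7) := ⟨by norm_num⟩
  intro hc
  obtain ⟨g, hg⟩ := isConj_iff.1 hc
  obtain ⟨P⟩ : Nonempty (Sylow 7 G) := inferInstance
  obtain ⟨Q, hQ⟩ := exists_sylow_eq_zpowers P (card_seven h P) hx
  have h1 := H42.mem_normalizer_zpowers_of_inverts hg
  have h2 := Subgroup.orderOf_dvd_natCard _ h1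
  rw [hQ, Q.coe_coe, norm_seven h] at h2
  have h3 : g ^ 2 ∈ centralizer ({x} : Set G) := by
    rw [mem_centralizer_singleton_iff, ← mul_inv_eq_iff_eq_mul]
    calc g ^ 2 * x * (g ^ 2)⁻¹ = g * (g * x * g⁻¹) * g⁻¹ := by rw [sq]; group
      _ = g * x⁻¹ * g⁻¹ := by rw [hg]
      _ = (g * x * g⁻¹)⁻¹ := by group
      _ = x := by rw [hg, inv_inv]
  have h4 := mem_centralizer_singleton_iff.1
    (mem_of_pow_mem h3 (Nat.Coprime.coprime_dvd_right h2 (by norm_num)))
  rw [h4, mul_inv_cancel_right, eq_inv_iff_mul_eq_one, ← sq, ← orderOf_dvd_iff_pow_eq_one,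
    hx] at hg
  norm_num at hg

end G168

end Cfsg.Agent.H36
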