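import Cfsg.Agent.H36.Central
import Cfsg.Agent.H9.Transport
import Cfsg.Agent.S1230

/-! Recognising `PSL(2, 2^k)` from an element count. -/

set_option autoImplicit false

namespace Cfsg.Agent.H36

open MulAction Subgroup

variable {G : Type*} [Group G] [Finite G]

theorem exists_pow_two_pow_eq_one {c : G}
    (h : ∀ r : ℕ, r.Prime → r ≠ 2 → ∀ k : ℕ, orderOf (c ^ k) ≠ r) : ∃ k : ℕ, c ^ 2 ^ k = 1 := by
  have := Nat.eq_prime_pow_of_unique_prime_dvd (p := 2) (orderOf_pos c).ne' fun {d} hd hdvd => by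
    by_contra hne
    obtain ⟨k, hk⟩ := exists_pow_orderOf_eq hdvd
    exact h d hd hne k hk
  exact ⟨_, by rw [← this, pow_orderOf_eq_one]⟩

theorem sq_eq_one_of_count (T : Sylow 2 G) {m : ℕ} (hG : Nat.card G = Nat.card T * m)
    (h1 : ∀ t x : G, orderOf t = 2 → (orderOf x).Prime → orderOf x ≠ 2 → ¬ Commute t x)
    (h2 : Nat.card {g : G // ∃ k : ℕ, g ^ 2 ^ k = 1} ≤ m + 1) {t : G} (ht : orderOf t = 2) :
    ∀ c ∈ centralizer ({t} : Set G), c ^ 2 = 1 := by
  have : Fact (Nat.Prime 2) := ⟨Nat.prime_two⟩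
  have a1 : ∀ c ∈ centralizer ({t} : Set G), ∃ k : ℕ, c ^ 2 ^ k = 1 := fun c hc =>
    exists_pow_two_pow_eq_one fun r hr hr2 k hk =>
      h1 t (c ^ k) ht (hk ▸ hr) (hk ▸ hr2)
        (mem_centralizer_singleton_iff.1 (pow_mem hc k)).symm
  have a2 : IsPGroup 2 (centralizer ({t} : Set G)) := fun c => by
    obtain ⟨k, hk⟩ := a1 c c.2
    exact ⟨k, Subtype.ext hk⟩
  obtain ⟨S, hS⟩ := a2.exists_le_sylow
  have a3 : Nat.card (centralizer ({t} : Set G)) ≤ Nat.card T :=
    (card_le_of_le hS).trans (card_sylow_congr T S).le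
  have a4 := card_isConj_mul_card_centralizer t
  have a5 : m ≤ Nat.card {g : G // IsConj t g} := by
    rw [hG] at a4
    have a6 : Nat.card T * m ≤ Nat.card T * Nat.card {g : G // IsConj t g} := by
      rw [← a4, mul_comm]
      exact Nat.mul_le_mul_right _ a3
    exact Nat.le_of_mul_le_mul_left a6 Nat.card_pos
  have ht1 := ne_one_of_orderOf_prime Nat.prime_two ht
  have a6 := card_subtype_or (p := fun g => IsConj t g) (q := fun g => g = 1)
    (fun g hg h => ht1 (by subst h; exact isConj_one_left.1 hg))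
  have a7 : Nat.card {g : G // g = 1} = 1 := Nat.card_unique
  have a8 : ∀ g : G, (IsConj t g ∨ g = 1) → g ^ 2 = 1 := by
    rintro g (hg | rfl)
    · rw [← ht, ← orderOf_eq_of_isConj hg, pow_orderOf_eq_one]
    · exact one_pow 2
  have a9 := of_card_subtype_le (p := fun g => IsConj t g ∨ g = 1)
    (q := fun g : G => ∃ k : ℕ, g ^ 2 ^ k = 1) (fun g hg => ⟨1, a8 g hg⟩) (by omega)
  exact fun c hc => a8 c (a9 c (a1 c hc))

theorem psl_of_count [IsSimpleGroup G] (T : Sylow 2 G) {m : ℕ} (hG : Nat.card G = Nat.card T * m)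
    (hm : m ≠ 1) (hT : 2 < Nat.card T)
    (h1 : ∀ t x : G, orderOf t = 2 → (orderOf x).Prime → orderOf x ≠ 2 → ¬ Commute t x)
    (h2 : Nat.card {g : G // ∃ k : ℕ, g ^ 2 ^ k = 1} ≤ m + 1)
    {F : Type*} [Field F] [Fintype F] (hF : Fintype.card F = Nat.card T) :
    Nonempty (G ≃* Matrix.ProjectiveSpecialLinearGroup (Fin 2) F) := by
  have : Fact (Nat.Prime 2) := ⟨Nat.prime_two⟩
  have hT' : 2 < Nat.card (T : Subgroup G) := hT
  suffices h : ∃ (F' : Type) (_ : Field F') (_ : Fintype F'), Fintype.card F' = Nat.card T ∧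
      Nonempty (G ≃* Matrix.ProjectiveSpecialLinearGroup (Fin 2) F') by
    obtain ⟨F', _, _, hF', ⟨e⟩⟩ := h
    exact ⟨e.trans (H9.pslMapEquiv (FiniteField.ringEquivOfCardEq (hF'.trans hF.symm)))⟩
  refine S1230.result T (fun hc => ?_) (fun hn => ?_) (fun t ht => ?_)
  · obtain ⟨⟨x, hx⟩, hx'⟩ := hc.exists_ofOrder_eq_natCard
    have hx2 : orderOf x = Nat.card (T : Subgroup G) := by rw [← hx', Subgroup.orderOf_mk]
    obtain ⟨k, hk⟩ := T.isPGroup' ⟨x, hx⟩
    obtain ⟨j, hj⟩ := exists_involution_pow (k := k) (congrArg Subtype.val hk) (by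
      rintro rfl
      rw [orderOf_one] at hx2
      omega)
    have := sq_eq_one_of_count T hG h1 h2 hj x
      (mem_centralizer_singleton_iff.2 (Commute.self_pow x j))
    have := orderOf_le_of_pow_eq_one (by norm_num) this
    omega
  · rcases hn.eq_bot_or_eq_top with h | h
    · rw [h, card_bot] at hT'
      omega
    · have h3 : Nat.card T = Nat.card G := by
        change Nat.card (T : Subgroup G) = _
        rw [h, card_top]
      rw [h3] at hG
      exact hm (Nat.eq_of_mul_eq_mul_left Nat.card_pos (hG.symm.trans (mul_one _).symm))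
  · have h3 := sq_eq_one_of_count T hG h1 h2 ht
    refine ⟨⟨⟨fun a b => ?_⟩⟩, h3⟩
    exact (Commute.of_orderOf_dvd_two (fun g : centralizer ({t} : Set G) =>
      orderOf_dvd_of_pow_eq_one (Subtype.ext (h3 g g.2))) a b).eq

theorem card_add_three_le {α : Type*} [Finite α] {p q r : α → Prop} (hpq : ∀ a, p a → ¬ q a)
    (hpr : ∀ a, p a → ¬ r a) (hqr : ∀ a, q a → ¬ r a) :
    Nat.card {a // p a} + Nat.card {a // q a} + Nat.card {a // r a} ≤ Nat.card α := by
  rw [← card_subtype_or hpq, ← card_subtype_or (fun a h => h.elim (hpr a) (hqr a))]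
  exact card_subtype_le _

end Cfsg.Agent.H36
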