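import Cfsg.Agent.S1234
import Cfsg.Agent.S1235

/-! 2-groups with a small TI subgroup have sectional rank at most 4. -/

set_option autoImplicit false

namespace Cfsg.Agent.H36.Fx

open Cfsg Subgroup Cfsg.Agent.H49 Cfsg.Agent.H50 Cfsg.Agent.H85
open scoped commutatorElement

variable {X : Type*} [Group X] [Finite X]

theorem pw {p : ℕ} [hp : Fact p.Prime] {H : Subgroup X} (hH : IsPGroup p H) (n : ℕ)
    (h : p ^ n < Nat.card H) : p ^ (n + 1) ≤ Nat.card H := by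
  obtain ⟨k, hk⟩ := hH.exists_card_eq
  rw [hk] at h ⊢
  exact Nat.pow_le_pow_right hp.out.pos ((Nat.pow_lt_pow_iff_right hp.out.one_lt).1 h)

omit [Finite X] in
theorem mem_zp {t x : X} (t2 : t * t = 1) (hx : x ∈ zpowers t) : x = 1 ∨ x = t := by
  obtain ⟨i, rfl⟩ := hx
  have h : t ^ (2 : ℤ) = 1 := by rw [zpow_two, t2]
  rcases Int.even_or_odd' i with ⟨k, rfl | rfl⟩
  · left; simp only; rw [zpow_mul, h, one_zpow]
  · right; simp only; rw [zpow_add, zpow_mul, h, one_zpow, one_mul, zpow_one]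

omit [Finite X] in
theorem card_zp {t : X} (t2 : t * t = 1) (t1 : t ≠ 1) : Nat.card (zpowers t) = 2 := by
  rw [Nat.card_zpowers]; exact orderOf_eq_prime (pow_two t ▸ t2) t1

theorem comm_surj {P Z : Subgroup X} {g : X} (h : ∀ x ∈ P, ⁅x, g⁆ ∈ Z)
    (hc : Nat.card Z ≤ (𝒞[g]).relIndex P) : ∀ z ∈ Z, ∃ x ∈ P, ⁅x, g⁆ = z := fun z hz => by
  let f : P ⧸ (𝒞[g]).subgroupOf P → Z := fun q => ⟨⁅((q.out : P) : X), g⁆, h _ q.out.2⟩
  have hf : Function.Injective f := fun a b hab => by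
    have h1 : ⁅((a.out : P) : X), g⁆ = ⁅((b.out : P) : X), g⁆ := congrArg Subtype.val hab
    rw [← a.out_eq', ← b.out_eq', QuotientGroup.eq, mem_subgroupOf, mem_cent1]
    simp only [commutatorElement_def, mul_left_inj] at h1
    change (a.out : X)⁻¹ * b.out * g = g * ((a.out : X)⁻¹ * b.out)
    calc (a.out : X)⁻¹ * b.out * g = (a.out : X)⁻¹ * (b.out * g * (b.out : X)⁻¹) * b.out := by
          group
      _ = (a.out : X)⁻¹ * (a.out * g * (a.out : X)⁻¹) * b.out := by rw [h1]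
      _ = g * ((a.out : X)⁻¹ * b.out) := by group
  obtain ⟨q, hq⟩ := (hf.bijective_of_nat_card_le hc).2 ⟨z, hz⟩
  exact ⟨_, q.out.2, congrArg Subtype.val hq⟩

/-- A normal subgroup of order at most 4 whose quotient is a 2-subgroup of `S₄`. -/
theorem alpha (hX : IsPGroup 2 X) {R : Subgroup X} (c4 : Nat.card R ≤ 4) (h8 : R.index ≤ 8)
    (ab : (∀ a b : X, a * b = b * a) → R.index ≤ 4) : SectionalPRankLE 2 4 X := by
  refine sectionalPRankLE_of_forall fun H K c => ?_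
  by_contra h
  obtain ⟨k, hk⟩ := hX.index (K.subgroupOf H |>.map H.subtype)
  have h1 := card_mul_relIndex c.le
  have h2 := R.card_mul_index
  have h3 : Nat.card H ≤ Nat.card X := by rw [← card_top (G := X)]; exact card_le_of_le le_top
  have h4 : Nat.card X ≤ 32 := by rw [← h2]; exact Nat.mul_le_mul c4 h8
  have h5 := card_pos' K
  have h6 : Nat.card K = 1 := by
    by_contra e
    have : 2 * 17 ≤ Nat.card K * K.relIndex H := Nat.mul_le_mul (by omega) (by omega)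
    omega
  rw [h6, one_mul] at h1
  have h7 := pw (hX.to_subgroup H) 4 (by omega)
  have h8 : H = ⊤ := eq_of_le_of_card_ge le_top (by rw [card_top]; omega)
  have h9 := ab fun a b => commutatorElement_eq_one_iff_mul_comm.1 (by
    have := c.comm a (h8 ▸ mem_top a) b (h8 ▸ mem_top b)
    rwa [card_eq_one.1 h6, mem_bot] at this)
  have : Nat.card R * R.index ≤ 4 * 4 := Nat.mul_le_mul c4 h9
  omega

/-- The TI configuration. -/
structure TI (R N : Subgroup X) : Prop where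
  two : IsPGroup 2 X
  le : R ≤ N
  nrm : N ≤ 𝒩(R)
  ne : R ≠ ⊥
  ti : ∀ r ∈ R, r ≠ 1 → ∀ g, g * r * g⁻¹ ∈ R → g ∈ N
  idx : R.relIndex N ≤ 8
  ab : ∀ Y ≤ N, (∀ a ∈ Y, ∀ b ∈ Y, ⁅a, b⁆ ∈ R) → R.relIndex Y ≤ 4
  c4 : Nat.card R ≤ 4

namespace TI

variable {R N : Subgroup X}

omit [Finite X] in
theorem conj (h : TI R N) {s : X} (hs : s ∈ 𝒩(N)) : TI (cj s R) N where
  two := h.two
  le := cj_le_of_mem_norm h.le hs
  nrm := by rw [← cj_normalizer, ← cj_eq_of_mem_norm hs]; exact cj_mono s h.nrm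
  ne := by simpa using h.ne
  ti := fun r hr r1 g hg => by
    obtain ⟨r, hr', rfl⟩ := mem_cj'.1 hr
    have := h.ti r hr' (fun e => r1 (by simp [e])) (s⁻¹ * g * s) (by
      simpa [mul_assoc] using mem_cj.1 hg)
    simpa [mul_assoc] using conj_mem_of_norm le_rfl hs this
  idx := by
    conv_lhs => rw [← cj_eq_of_mem_norm hs]
    rw [relIndex_cj]; exact h.idx
  ab := fun Y hY hc => by
    have := h.ab (cj s⁻¹ Y) (cj_le_of_mem_norm hY (inv_mem hs)) fun a ha b hb => by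
      obtain ⟨a, ha', rfl⟩ := mem_cj'.1 ha
      obtain ⟨b, hb', rfl⟩ := mem_cj'.1 hb
      have := mem_cj.1 (hc a ha' b hb')
      simpa [commutatorElement_def, mul_assoc] using this
    rwa [← relIndex_cj s, cj_cj, mul_inv_cancel, cj_one] at this
  c4 := by rw [card_cj]; exact h.c4

omit [Finite X] in
theorem cent (h : TI R N) {r : X} (hr : r ∈ R) (r1 : r ≠ 1) : 𝒞[r] ≤ N := fun g hg =>
  h.ti r hr r1 g (by rwa [mem_cent1.1 hg, mul_inv_cancel_right])

omit [Finite X] in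
theorem card_ab (h : TI R N) {Y : Subgroup X} (hY : Y ≤ N) (hc : Y ≤ 𝒞(Y)) :
    Nat.card Y ≤ Nat.card ↥(R ⊓ Y) * 4 := by
  rw [← card_inf_mul_relIndex R Y]
  exact Nat.mul_le_mul_left _ (h.ab Y hY fun a ha b hb => by
    rw [commutatorElement_eq_one_iff_mul_comm.2 (hc hb a ha)]; exact one_mem R)

theorem exists_z (h : TI R N) : ∃ r ∈ R, r ≠ 1 ∧ r * r = 1 ∧ 𝒞[r] = N := by
  have := normal_subgroupOf h.nrm
  obtain ⟨y, hy, hy', ho⟩ := H3.exists_mem_center_orderOf_eq (h.two.to_subgroup N)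
    (R.subgroupOf N) (by rw [Ne, subgroupOf_eq_bot, disjoint_iff, inf_eq_left.2 h.le]; exact h.ne)
  have y1 : (y : X) ≠ 1 := fun e => by
    rw [show y = 1 from Subtype.ext e, orderOf_one] at ho; omega
  refine ⟨y, hy, y1, ?_, le_antisymm (h.cent hy y1) fun g hg => mem_cent1.2 ?_⟩
  · have := pow_orderOf_eq_one y
    rw [ho, pow_two] at this
    exact congrArg Subtype.val this
  · exact congrArg Subtype.val (mem_center_iff.1 hy' ⟨g, hg⟩)

/-- An elementary abelian subgroup of order at least 8 through the central involution. -/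
theorem exists_A (h : TI R N) {r : X} (r1 : r ≠ 1) (r2 : r * r = 1) (hr : 𝒞[r] = N)
    (hn : ¬ SectionalPRankLE 2 4 X) :
    ∃ A ≤ N, r ∈ A ∧ (∀ a ∈ A, a * a = 1) ∧ 8 ≤ Nat.card A := by
  obtain ⟨E, hE, hc, h2, h4⟩ : ∃ E : Subgroup X, E.Normal ∧ IsMulCommutative E ∧
      (∀ a ∈ E, a ^ 2 = 1) ∧ 4 < Nat.card E := by
    by_contra! hc
    exact hn (S0501.result h.two hc)
  have h8 : 8 ≤ Nat.card E := pw (h.two.to_subgroup E) 2 h4
  have h2' : ∀ a ∈ E, a * a = 1 := fun a ha => pow_two a ▸ h2 a ha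
  by_cases hrE : r ∈ E
  · exact ⟨E, hr ▸ (S1235.comm_of_sq h2').trans (cent_le_cent1 hrE), hrE, h2', h8⟩
  have a1 := relIndex_cent1_le (P := E) (g := r) fun x hx => S1235.comm_fix h2'
    (normal_iff_top_le_norm.1 hE (mem_top r)) (r2 ▸ one_mem _) hx
  have a2 := card_inf_mul_relIndex 𝒞[r] E
  rw [inf_comm] at a2
  have a3 : 4 ≤ Nat.card ↥(E ⊓ 𝒞[r]) := pw (h.two.to_subgroup _) 1 (by
    by_contra e
    have : Nat.card ↥(E ⊓ 𝒞[r]) * (𝒞[r]).relIndex E ≤ 2 * 2 := Nat.mul_le_mul (by omega) (by omega)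
    omega)
  have hz : zpowers r ≤ 𝒩(E ⊓ 𝒞[r]) :=
    norm_of_cent (zpowers_le.2 (le_cent1_iff.1 inf_le_right))
  refine ⟨(E ⊓ 𝒞[r]) ⊔ zpowers r, hr ▸ sup_le inf_le_right (zpowers_le.2 (self_mem_cent1 r)),
    mem_sup_right (mem_zpowers r), fun y hy => ?_, ?_⟩
  · obtain ⟨x, hx, w, hw, rfl⟩ := (mem_sup_of_norm_left hz).1 hy
    rcases mem_zp r2 hw with rfl | rfl
    · rw [mul_one, h2' x hx.1]
    · rw [← pow_two, Commute.mul_pow (mem_cent1.1 hx.2), pow_two, pow_two, r2, h2' x hx.1, mul_one]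
  · rw [card_sup_of_disjoint (Or.inr hz) (le_bot_iff.1 fun x hx =>
      (mem_zp r2 hx.2).resolve_right fun e => hrE (e ▸ hx.1.1)), card_zp r2 r1]
    omega

/-- If abelian subgroups over `A` are small, `A` is a self-centralizing `E₈`. -/
theorem of_A (h : TI R N) {r : X} (hr : 𝒞[r] = N) {A : Subgroup X} (hA : A ≤ N) (hrA : r ∈ A)
    (h2 : ∀ a ∈ A, a * a = 1) (h8 : 8 ≤ Nat.card A)
    (hY : ∀ Y ≤ N, A ≤ Y → Y ≤ 𝒞(Y) → Nat.card Y ≤ 8) : SectionalPRankLE 2 4 X := by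
  have hc := S1235.comm_of_sq h2
  refine S1232.result h.two A ⟨abelian_iff.2 hc, fun a ha => pow_two a ▸ h2 a ha⟩
    (le_antisymm (hY A hA le_rfl hc) h8) (le_antisymm (fun c hc' => ?_) hc)
  have h1 : A ⊔ zpowers c ≤ 𝒞(A ⊔ zpowers c) := by
    rw [cent_sup, cent_zpowers]
    exact le_inf (sup_le hc (zpowers_le.2 hc'))
      (sup_le (le_cent1_iff.2 hc') (zpowers_le.2 (self_mem_cent1 c)))
  have h3 := hY _ (sup_le hA (zpowers_le.2 (hr ▸ cent_le_cent1 hrA hc'))) le_sup_left h1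
  exact (eq_of_le_of_card_ge (le_sup_left : A ≤ A ⊔ zpowers c) (h3.trans h8)).ge
    (mem_sup_right (mem_zpowers c))

theorem sq_of (h : TI R N) (h4 : Nat.card R = 4) {a b : X} (ha : a ∈ R) (hb : b ∈ R) (a1 : a ≠ 1)
    (b1 : b ≠ 1) (ab : a ≠ b) (a2 : a * a = 1) (b2 : b * b = 1) : ∀ x ∈ R, x * x = 1 := by
  have hc : R ≤ 𝒞(R) := abelian_iff.1 (IsPGroup.isMulCommutative_of_card_eq_prime_sq (p := 2) h4)
  let O : Subgroup X :=
    { carrier := {x | x ∈ R ∧ x * x = 1}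
      mul_mem' := fun {x y} hx hy => ⟨mul_mem hx.1 hy.1, by
        rw [← pow_two, Commute.mul_pow (hc hy.1 x hx.1), pow_two, pow_two, hx.2, hy.2, mul_one]⟩
      one_mem' := ⟨one_mem R, mul_one 1⟩
      inv_mem' := fun {x} hx => ⟨inv_mem hx.1, by rw [← mul_inv_rev, hx.2, inv_one]⟩ }
  have h1 : zpowers a < O := lt_of_le_of_ne (zpowers_le.2 ⟨ha, a2⟩) fun e =>
    (mem_zp a2 (e.ge (⟨hb, b2⟩ : b ∈ O))).elim b1 fun e' => ab e'.symm
  have h2 := H4.mul_card_le_of_lt (h.two.to_subgroup O) h1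
  rw [card_zp a2 a1] at h2
  exact fun x hx => ((eq_of_le_of_card_ge (fun y hy => hy.1 : O ≤ R) (by omega)).ge hx).2

theorem main (h : TI R N) (hN : N ≠ ⊤) : SectionalPRankLE 2 4 X := by
  by_contra hn
  have nil : Group.IsNilpotent (⊤ : Subgroup X) :=
    (isPi_of_isPGroup Nat.prime_two (h.two.to_subgroup ⊤)).nilpotent
  obtain ⟨s, hs, hs'⟩ := SetLike.exists_of_lt (lt_inf_norm_of_nilpotent nil (lt_top_iff_ne_top.2 hN))
  have h' := h.conj hs.2
  have hd : R ⊓ cj s R = ⊥ := by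
    by_contra e
    obtain ⟨x, hx, x1⟩ := ne_bot_iff_exists.1 e
    obtain ⟨r, hr, rfl⟩ := mem_cj'.1 hx.2
    exact hs' (h.ti r hr (fun e => x1 (by simp [e])) s hx.1)
  obtain ⟨r, hr, r1, r2, hrc⟩ := h.exists_z
  obtain ⟨A, hA, hrA, hA2, hA8⟩ := h.exists_A r1 r2 hrc hn
  rcases h.c4.lt_or_eq with h4 | h4
  · refine hn (h.of_A hrc hA hrA hA2 hA8 fun Y hY _ hc => ?_)
    have a1 := h.card_ab hY hc
    have a2 : Nat.card ↥(R ⊓ Y) ≤ 2 := by
      by_contra e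
      have := (pw (h.two.to_subgroup (R ⊓ Y)) 1 (by omega)).trans (card_le_of_le inf_le_left)
      omega
    omega
  have h4' : Nat.card (cj s R) = 4 := by rw [card_cj, h4]
  have hnn : R ≤ 𝒩(cj s R) := h.le.trans h'.nrm
  have hcc : R ≤ 𝒞(cj s R) := cent_of_norm_of_disjoint hnn (h'.le.trans h.nrm) hd
  have hW : Nat.card ↥(R ⊔ cj s R) = 16 := by
    rw [card_sup_of_disjoint (Or.inl hnn) hd, h4, h4']
  have hWN : R ⊔ cj s R ≤ N := sup_le h.le h'.le
  have hN32 : Nat.card N ≤ 32 := by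
    rw [← card_mul_relIndex h.le, h4]; have := h.idx; omega
  by_cases hR : ∀ x ∈ R, x * x = 1
  swap
  · refine hn (h.of_A hrc hA hrA hA2 hA8 fun Y hY hAY hc => ?_)
    by_contra e
    have a0 : 16 ≤ Nat.card Y := pw (h.two.to_subgroup Y) 3 (by omega)
    have a1 := h.card_ab hY hc
    have a2 := h'.card_ab hY hc
    have a3 : R ≤ Y := inf_eq_left.1 (eq_of_le_of_card_ge inf_le_left (by omega))
    have a4 : cj s R ≤ Y := inf_eq_left.1 (eq_of_le_of_card_ge inf_le_left (by omega))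
    rw [inf_eq_left.2 a3] at a1
    have a5 : R ⊔ cj s R = Y := eq_of_le_of_card_ge (sup_le a3 a4) (by omega)
    have u1 : ∀ x ∈ R, x * x = 1 → x ∈ zpowers r := fun x hx x2 => by
      by_contra c
      exact hR (h.sq_of h4 hx hr (fun e => c (e ▸ one_mem _)) r1 (fun e => c (e ▸ mem_zpowers x))
        x2 r2)
    have a6 : A ≤ zpowers r ⊔ cj s (zpowers r) := fun y hy => by
      obtain ⟨a, ha, b, hb, rfl⟩ := (mem_sup_of_norm_right hnn).1 (a5.ge (hAY hy))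
      have e1 : a * a * (b * b) = 1 := by
        rw [← pow_two, ← pow_two, ← Commute.mul_pow (hcc ha b hb).symm, pow_two, hA2 _ hy]
      have e2 : a * a = 1 := hd.le (mem_inf.2 ⟨mul_mem ha ha, by
        rw [eq_inv_of_mul_eq_one_left e1]; exact inv_mem (mul_mem hb hb)⟩)
      rw [e2, one_mul] at e1
      refine mul_mem (mem_sup_left (u1 a ha e2)) (mem_sup_right ?_)
      obtain ⟨b, hb', rfl⟩ := mem_cj'.1 hb
      refine conj_mem_cj.2 (u1 b hb' ?_)
      calc _ = s⁻¹ * (s * b * s⁻¹ * (s * b * s⁻¹)) * s := by group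
        _ = 1 := by rw [e1]; group
    have a7 := Nat.le_of_dvd (Nat.mul_pos (card_pos' _) (card_pos' _)) (card_sup_dvd (Or.inl
      (norm_of_cent (((zpowers_le.2 hr).trans hcc).trans (cent_anti (cj_mono s (zpowers_le.2 hr)))))))
    rw [card_cj, card_zp r2 r1] at a7
    have := card_le_of_le a6
    omega
  have hR' : ∀ x ∈ cj s R, x * x = 1 := fun x hx => by
    obtain ⟨b, hb', rfl⟩ := mem_cj'.1 hx
    calc _ = s * (b * b) * s⁻¹ := by group
      _ = 1 := by rw [hR b hb']; group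
  have hW2 : ∀ x ∈ R ⊔ cj s R, x * x = 1 := fun y hy => by
    obtain ⟨a, ha, b, hb, rfl⟩ := (mem_sup_of_norm_right hnn).1 hy
    rw [← pow_two, Commute.mul_pow (hcc ha b hb).symm, pow_two, pow_two, hR a ha, hR' b hb, mul_one]
  have hWc := S1235.comm_of_sq hW2
  rcases hWN.lt_or_eq with a | a
  swap
  · exact hn (S1235.Cf.main ⟨h.two, hW, hW2, le_sup_left, h4, fun b hb b1 => le_antisymm
      (a ▸ h.cent hb b1) (hWc.trans (cent_le_cent1 (mem_sup_left hb)))⟩)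
  have a1 := H4.mul_card_le_of_lt (h.two.to_subgroup N) a
  have hNc : Nat.card N = 32 := by omega
  have hi : (R ⊔ cj s R).relIndex N = 2 := by
    have := card_mul_relIndex hWN
    rw [hW] at this
    omega
  have hNW : N ≤ 𝒩(R ⊔ cj s R) := norm_sup h.nrm h'.nrm
  -- elements outside `W` have a centralizer of order 4 in `W`
  have key : ∀ {R₁ R₂ : Subgroup X}, TI R₁ N → TI R₂ N → Nat.card R₁ = 4 → Nat.card R₂ = 4 →
      R₁ ⊔ R₂ = R ⊔ cj s R → ∀ k ∈ N, k ∉ R ⊔ cj s R → Nat.card ↥(R₁ ⊓ 𝒞[k]) ≤ 2 := by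
    intro R₁ R₂ h₁ h₂ c₁ c₂ e k hk hk'
    by_contra c
    have b1 : R₁ ≤ 𝒞[k] := inf_eq_left.1 (eq_of_le_of_card_ge inf_le_left
      (c₁ ▸ pw (h.two.to_subgroup (R₁ ⊓ 𝒞[k])) 1 (by omega)))
    have b2 : R₁ ⊔ zpowers k ≤ 𝒞(R₁ ⊔ zpowers k) := by
      rw [cent_sup, cent_zpowers]
      have : R₁ ≤ R ⊔ cj s R := e ▸ le_sup_left
      exact le_inf (sup_le (this.trans (hWc.trans (cent_anti this))) (zpowers_le.2 (le_cent1_iff.1 b1)))
        (sup_le b1 (zpowers_le.2 (self_mem_cent1 k)))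
    have b3 : R₂ ⊔ (R₁ ⊔ zpowers k) = N := by
      rw [← sup_assoc, sup_comm R₂, e]
      refine eq_of_le_of_card_ge (sup_le hWN (zpowers_le.2 hk)) ?_
      have := H4.mul_card_le_of_lt (h.two.to_subgroup _)
        (left_lt_sup.2 fun c => hk' (c (mem_zpowers k)) : R ⊔ cj s R < R ⊔ cj s R ⊔ zpowers k)
      omega
    have b4 : R₁ ⊔ zpowers k ≤ N := b3 ▸ le_sup_right
    have b5 := h₂.ab _ b4 fun a ha b hb => by
      rw [commutatorElement_eq_one_iff_mul_comm.2 (b2 hb a ha)]; exact one_mem _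
    rw [← H21.relIndex_sup_of_le_normalizer (b4.trans h₂.nrm), b3] at b5
    have := card_mul_relIndex h₂.le
    rw [c₂] at this
    omega
  have fix : ∀ k ∈ N, k ∉ R ⊔ cj s R → Nat.card ↥((R ⊔ cj s R) ⊓ 𝒞[k]) ≤ 4 := fun k hk hk' => by
    have b1 := key h h' h4 h4' rfl k hk hk'
    have b2 := key h' h h4' h4 (sup_comm _ _) k hk hk'
    have b3 : (R ⊔ cj s R) ⊓ 𝒞[k] ≤ (R ⊓ 𝒞[k]) ⊔ (cj s R ⊓ 𝒞[k]) := fun y hy => by
      obtain ⟨a, ha, b, hb, rfl⟩ := (mem_sup_of_norm_right hnn).1 hy.1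
      have ka := conj_mem_of_norm h.nrm hk ha
      have kb := conj_mem_of_norm h'.nrm hk hb
      have e1 : a⁻¹ * (k * a * k⁻¹) = b * (k * b * k⁻¹)⁻¹ := by
        calc _ = a⁻¹ * (k * (a * b)) * (b⁻¹ * k⁻¹) := by group
          _ = _ := by rw [← mem_cent1.1 hy.2]; group
      have e2 : a⁻¹ * (k * a * k⁻¹) = 1 :=
        hd.le (mem_inf.2 ⟨mul_mem (inv_mem ha) ka, e1 ▸ mul_mem hb (inv_mem kb)⟩)
      rw [e2] at e1
      refine mul_mem (mem_sup_left ⟨ha, mem_cent1.2 ?_⟩) (mem_sup_right ⟨hb, mem_cent1.2 ?_⟩)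
      · rw [inv_mul_eq_one] at e2
        exact (eq_mul_inv_iff_mul_eq.1 e2)
      · exact (eq_mul_inv_iff_mul_eq.1 (mul_inv_eq_one.1 e1.symm))
    have b4 := Nat.le_of_dvd (Nat.mul_pos (card_pos' _) (card_pos' _)) (card_sup_dvd
      (H := R ⊓ 𝒞[k]) (K := cj s R ⊓ 𝒞[k]) (Or.inl
      (norm_of_cent ((inf_le_left.trans hcc).trans (cent_anti inf_le_left)))))
    exact (card_le_of_le b3).trans (b4.trans (Nat.mul_le_mul b1 b2))
  have out : ∀ k ∈ N, k * k ∈ R ⊔ cj s R := fun k hk => by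
    have := normal_subgroupOf hNW
    have := ((R ⊔ cj s R).subgroupOf N).pow_index_mem ⟨k, hk⟩
    rw [show ((R ⊔ cj s R).subgroupOf N).index = 2 from hi, pow_two] at this
    exact this
  obtain ⟨t, ht, ht'⟩ := SetLike.exists_of_lt a
  generalize R ⊔ cj s R = W at *
  -- an involution outside `W`
  obtain ⟨b, hb, e⟩ : ∃ b ∈ W, ⁅b, t⁆ = (t * t)⁻¹ := by
    have b1 := card_inf_mul_relIndex 𝒞[t] W
    have b2 := fix t ht ht'
    rw [inf_comm, hW] at b1
    refine comm_surj (fun x hx => S1235.comm_fix hW2 (hNW ht) (hWc (out t ht)) hx) ?_ _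
      (inv_mem (mem_inf.2 ⟨out t ht, mem_cent1.2 (mul_assoc _ _ _)⟩))
    by_contra c
    have : Nat.card ↥(W ⊓ 𝒞[t]) * (𝒞[t]).relIndex W ≤ 4 * 3 := Nat.mul_le_mul b2 (by omega)
    omega
  have u1 : b * t ∈ N := mul_mem (hWN hb) ht
  have u2 : b * t ∉ W := fun c => ht' ((W.mul_mem_cancel_left hb).1 c)
  have u3 : b * t * (b * t) = 1 := by
    rw [commutatorElement_def, inv_eq_of_mul_eq_one_right (hW2 _ hb)] at e
    calc _ = b * t * b * t⁻¹ * (t * t) := by group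
      _ = 1 := by rw [e, inv_mul_cancel]
  generalize b * t = u at u1 u2 u3
  refine hn (S1234.result h.two N W hWN ⟨abelian_iff.2 hWc, fun a ha => pow_two a ▸ hW2 a ha⟩ hW hNc
    u u1 u2 (orderOf_eq_prime (pow_two u ▸ u3) fun c => u2 (c ▸ one_mem W)) ?_ ?_)
  · have b0 := relIndex_cent1_le fun x hx => S1235.comm_fix hW2 (hNW u1) (u3 ▸ one_mem _) hx
    have b1 := card_inf_mul_relIndex 𝒞[u] W
    have b2 := fix u u1 u2
    rw [inf_comm, hW] at b1
    change Nat.card ↥(W ⊓ 𝒞[u]) = 4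
    generalize Nat.card ↥(W ⊓ 𝒞[u]) = k at b0 b1 b2
    interval_cases k <;> omega
  · refine le_antisymm (fun g hg => hrc ▸ mem_cent1.2 (hg r ⟨⟨r, h.le hr⟩, mem_center_iff.2
      fun y => Subtype.ext (mem_cent1.1 (hrc.ge y.2)), rfl⟩).symm) fun g hg => ?_
    rintro _ ⟨y, hy, rfl⟩
    exact (congrArg Subtype.val (mem_center_iff.1 hy ⟨g, hg⟩)).symm

end TI

end Cfsg.Agent.H36.Fx
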