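import Cfsg.Agent.H36.FxA
import Cfsg.Agent.S2807
import Cfsg.Agent.H62.MaxCl4
import Cfsg.Agent.H20.Exs2

/-! A Sylow 3-subgroup of maximal class with a non-real element outside the two-step centralizer. -/

set_option autoImplicit false

namespace Cfsg.Agent.H36.Fx

open Cfsg Subgroup Cfsg.Agent.H49 Cfsg.Agent.H62
open scoped commutatorElement

theorem focal_le {G : Type*} [Group G] [Finite G] {q : ℕ} (hq : q.Prime) {S H K : Subgroup G}
    (hS : IsSylowOf q S H)
    (h : ∀ a ∈ S, ∀ g ∈ H, g * a * g⁻¹ ∈ S → a⁻¹ * (g * a * g⁻¹) ∈ K) : S ⊓ ⁅H, H⁆ ≤ K := by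
  have := Fact.mk hq
  obtain ⟨P, rfl⟩ := exists_sylow_of hq hS
  rw [← map_subtype_commutator, ← map_inf _ _ _ H.subtype_injective, inf_comm,
    commutator_inf_eq_focalSubgroup, map_le_iff_le_comap, focalSubgroup_def, closure_le]
  rintro _ ⟨h1, x, hx, u, rfl⟩
  have h2 : u * x⁻¹ * u⁻¹ ∈ (P : Subgroup H) := by
    have := mul_mem (inv_mem hx) h1
    simpa [commutatorElement_def, mul_assoc] using this
  have h3 := h ((x⁻¹ : H) : G) (mem_map_of_mem _ (inv_mem hx)) u u.2 (mem_map_of_mem H.subtype h2)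
  simpa [commutatorElement_def, mul_assoc, mem_subgroupOf] using h3

theorem sum_ne : ∀ O : Finset (Fin 2 → ZMod 3), (∀ a ∈ O, -a ∉ O) → ¬ 3 ∣ O.card →
    ∑ a ∈ O, a ≠ 0 := by
  decide +kernel

theorem prod_ne {V : Type*} [CommGroup V] [Finite V] (h3 : ∀ a : V, a ^ 3 = 1)
    (h9 : Nat.card V = 3 ^ 2) (O : Finset V) (h : ∀ a ∈ O, a⁻¹ ∉ O) (hc : ¬ 3 ∣ O.card) :
    ∏ a ∈ O, a ≠ 1 := fun e => by
  have : Fact (Nat.Prime 3) := ⟨Nat.prime_three⟩
  obtain ⟨φ⟩ := H20.exists_equiv_pi (p := 3) mul_comm h3 h9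
  let ψ : V ↪ (Fin 2 → ZMod 3) := ⟨fun v => (φ v).toAdd, fun a b c =>
    φ.injective (Multiplicative.toAdd.injective c)⟩
  refine sum_ne (O.map ψ) (fun a ha hb => ?_) (by rwa [Finset.card_map]) ?_
  · obtain ⟨a, ha', rfl⟩ := Finset.mem_map.1 ha
    obtain ⟨b, hb', c⟩ := Finset.mem_map.1 hb
    refine h a ha' ?_
    rwa [← ψ.injective (c.trans (show _ = ψ a⁻¹ from (congrArg Multiplicative.toAdd
      (map_inv φ a)).symm))]
  · rw [Finset.sum_map]
    change ∑ a ∈ O, (φ a).toAdd = 0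
    rw [← toAdd_prod, ← map_prod, e, map_one, toAdd_one]

/-- A `3'`-group of automorphisms of `3²` not inverting a vector has an invariant nontrivial
homomorphism. -/
theorem exists_inv {V : Type*} [CommGroup V] [Finite V] (h3 : ∀ a : V, a ^ 3 = 1)
    (h9 : Nat.card V = 3 ^ 2) (D : Subgroup (MulAut V)) (hD : ¬ 3 ∣ Nat.card D) (x : V)
    (hx : ∀ d ∈ D, d x ≠ x⁻¹) : ∃ μ : V →* V, (∃ v, μ v ≠ 1) ∧ ∀ d ∈ D, ∀ v, μ (d v) = μ v := by
  classical
  have := Fintype.ofFinite D
  let O := (MulAction.orbit D x).toFinite.toFinset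
  have mO : ∀ a, a ∈ O ↔ ∃ d : D, (d : MulAut V) x = a := fun a => by
    rw [Set.Finite.mem_toFinset]; rfl
  have h1 := prod_ne h3 h9 O (fun a ha hb => by
    obtain ⟨d, rfl⟩ := (mO _).1 ha
    obtain ⟨e, he⟩ := (mO _).1 hb
    refine hx (d⁻¹ * e) (mul_mem (inv_mem d.2) e.2) ?_
    rw [MulAut.mul_apply, he, map_inv]
    exact congrArg _ (MulAut.inv_apply_self _ _ _)) fun c => hD (c.trans (by
      rw [← Set.ncard_eq_toFinset_card, ← MulAction.index_stabilizer]
      exact index_dvd_card _))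
  refine ⟨∏ d : D, ((d : MulAut V) : V →* V), ⟨∏ a ∈ O, a, fun e => h1 ?_⟩, fun d hd v => ?_⟩
  · have h2 : ∀ d : D, (d : MulAut V) (∏ a ∈ O, a) = ∏ a ∈ O, a := fun d => by
      rw [map_prod]
      refine Finset.prod_equiv (d : MulAut V).toEquiv (fun a => ?_) fun a _ => rfl
      rw [mO, mO]
      refine ⟨fun ⟨e, he⟩ => ⟨d * e, by rw [← he]; rfl⟩, fun ⟨e, he⟩ => ⟨d⁻¹ * e, ?_⟩⟩
      change (d : MulAut V)⁻¹ ((e : MulAut V) x) = a
      rw [he]; exact MulAut.inv_apply_self _ _ _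
    rw [MonoidHom.finsetProd_apply] at e
    simp only [MonoidHom.coe_coe, h2, Finset.prod_const, Finset.card_univ] at e
    have h5 := pow_gcd_eq_one.2 ⟨h3 _, e⟩
    rwa [((Nat.Prime.coprime_iff_not_dvd Nat.prime_three).2
      (by rwa [← Nat.card_eq_fintype_card])).gcd_eq_one, pow_one] at h5
  · rw [MonoidHom.finsetProd_apply, MonoidHom.finsetProd_apply]
    exact Fintype.prod_equiv (Equiv.mulRight (⟨d, hd⟩ : D)) _ _ fun e => rfl

/-- action of the normaliser on the abelianisation -/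
def abAct {G : Type*} [Group G] (P : Subgroup G) : 𝒩(P) →* MulAut (Abelianization P) :=
  MonoidHom.mk' (fun a => (P.normalizerMonoidHom a).abelianizationCongr) (by
    intro a b
    ext v
    obtain ⟨w, rfl⟩ := QuotientGroup.mk_surjective v
    rw [map_mul]
    rfl)

theorem card_W (W : Sylow 3 (Equiv.Perm (Fin 9))) : Nat.card W = 3 ^ 4 := by
  have : Fact (Nat.Prime 3) := ⟨Nat.prime_three⟩
  rw [W.card_eq_multiplicity, Nat.card_perm, Nat.card_fin,
    show Nat.factorial 9 = 3 ^ 4 * 4480 by decide, Nat.factorization_mul (by omega) (by omega),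
    Nat.factorization_pow]
  simp [Nat.Prime.factorization_self Nat.prime_three,
    Nat.factorization_eq_zero_of_not_dvd (show ¬ 3 ∣ 4480 by omega)]

theorem cube : ∀ g : Fin 3 → Multiplicative (ZMod 3), g ^ 3 = 1 := by decide

theorem exists_E27 (W : Sylow 3 (Equiv.Perm (Fin 9))) :
    ∃ ψ : (Fin 3 → Multiplicative (ZMod 3)) →* W, Function.Injective ψ := by
  have : Fact (Nat.Prime 3) := ⟨Nat.prime_three⟩
  let C := Multiplicative (ZMod 3)
  let E : (Σ _ : Fin 3, C) ≃ Fin 9 := Finite.equivFinOfCardEq (by simp [C])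
  let φ : (Fin 3 → C) →* Equiv.Perm (Fin 9) := (E.permCongrHom : _ →* _).comp
    ((Equiv.Perm.sigmaCongrRightHom fun _ => C).comp
      (MonoidHom.compLeft (MulAction.toPermHom C C) (Fin 3)))
  have hφ : Function.Injective φ := E.permCongrHom.injective.comp
    (Equiv.Perm.sigmaCongrRightHom_injective.comp fun a b c => funext fun i =>
      MulAction.toPerm_injective (congrFun c i))
  have hp : IsPGroup 3 φ.range := (IsPGroup.of_card (n := 3) (by simp [C])).of_surjective _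
    φ.rangeRestrict_surjective
  obtain ⟨W', hW⟩ := hp.exists_le_sylow
  exact ⟨(Sylow.equiv W' W).toMonoidHom.comp (φ.codRestrict _ fun x => hW ⟨x, rfl⟩),
    (Sylow.equiv W' W).injective.comp fun a b c => hφ (congrArg Subtype.val c)⟩

theorem wreath {G : Type*} [Group G] [Finite G] (hG : commutator G = ⊤) (P : Sylow 3 G)
    (x : (P : Subgroup G)) (h9 : Nat.card 𝒞[x] ≤ 3 ^ 2) (h27 : 3 ^ 2 < Nat.card P)
    (hinv : ∀ h ∈ 𝒩((P : Subgroup G)), h * x * h⁻¹ ≠ (x : G)⁻¹) :
    ∃ T : Sylow 3 (Equiv.Perm (Fin 9)), Nonempty ((P : Subgroup G) ≃* (T : Subgroup (Equiv.Perm (Fin 9)))) := by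
  have : Fact (Nat.Prime 3) := ⟨Nat.prime_three⟩
  obtain ⟨n, hn⟩ := P.isPGroup'.exists_card_eq
  have h3 : 3 ≤ n := (Nat.pow_lt_pow_iff_right (by omega)).1 (hn ▸ h27)
  have mc : MC (P : Subgroup G) 3 n := mc_of_class hn h3
    (H4.nilpotencyClass_eq_of_card_centralizer_le n (by omega) _ hn x h9)
  have hi : (commutator (P : Subgroup G)).index = 3 ^ 2 := mc.index_LL_one
  have hS : IsSylowOf 3 (P : Subgroup G) 𝒩((P : Subgroup G)) :=
    (sylowOf_top Nat.prime_three P).sub le_normalizer le_top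
  obtain ⟨μ, ⟨v, hv⟩, hμ⟩ := exists_inv (V := Abelianization (P : Subgroup G)) (fun a => by
      obtain ⟨w, rfl⟩ := QuotientGroup.mk_surjective a
      exact (QuotientGroup.eq_one_iff (w ^ 3)).2 (mc.pow_mem_one w)) hi (abAct (P : Subgroup G)).range
    (fun c => P.not_dvd_index (c.trans (by
      rw [← index_ker]
      refine (index_dvd_of_le (H := (P : Subgroup G).subgroupOf _) fun g hg => ?_).trans
        (relIndex_dvd_index_of_le le_normalizer)
      ext w
      obtain ⟨w, rfl⟩ := QuotientGroup.mk_surjective w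
      change Abelianization.of (⟨g, hg⟩ * w * ⟨g, hg⟩⁻¹) = Abelianization.of w
      rw [map_mul, map_mul, mul_right_comm, map_inv, mul_inv_cancel, one_mul])))
    (Abelianization.of x) (by
      rintro _ ⟨g, rfl⟩ e
      have e1 : ((P : Subgroup G).normalizerMonoidHom g x)⁻¹ * x⁻¹ ∈ commutator (P : Subgroup G) :=
        QuotientGroup.eq.1 e
      obtain ⟨p, -, hp⟩ := comm_surj (P := ⊤) (g := x) (fun y _ => commutator_mem_commutator
        (mem_top y) (mem_top x)) (by
          have a1 := (commutator (P : Subgroup G)).card_mul_index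
          have a2 := (𝒞[x]).card_mul_index
          rw [relIndex_top_right]
          rw [hi, ← a2, mul_comm _ (index _)] at a1
          exact Nat.le_of_mul_le_mul_right (a1.le.trans (Nat.mul_le_mul_left _ h9)) (by omega)) _ e1
      have e2 : (p : G) * x * (p : G)⁻¹ * (x : G)⁻¹ = ((g : G) * x * (g : G)⁻¹)⁻¹ * (x : G)⁻¹ :=
        congrArg Subtype.val hp
      refine hinv ((g : G)⁻¹ * p) (mul_mem (inv_mem g.2) (le_normalizer p.2)) ?_
      calc _ = (g : G)⁻¹ * ((p : G) * x * (p : G)⁻¹ * (x : G)⁻¹) * x * g := by group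
        _ = _ := by rw [e2]; group)
  obtain ⟨W, f, hf⟩ := S2807.result P fun e => by
    obtain ⟨w, rfl⟩ := QuotientGroup.mk_surjective v
    have h1 := focal_le Nat.prime_three (K := (μ.comp Abelianization.of).ker.map (Subgroup.subtype _))
      hS fun a ha g hg h => ⟨⟨a, ha⟩⁻¹ * ⟨_, h⟩, by
        change μ (Abelianization.of _) = 1
        rw [map_mul, map_mul, map_inv, map_inv, inv_mul_eq_one]
        exact (hμ _ ⟨⟨g, hg⟩, rfl⟩ _).symm, rfl⟩
    rw [← e, hG, inf_top_eq] at h1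
    obtain ⟨y, hy, e'⟩ := h1 w.2
    obtain rfl : y = w := Subtype.ext e'
    exact hv hy
  have hW := card_W W
  have h4 : 4 ≤ n := (Nat.pow_le_pow_iff_right (by omega)).1
    (hW ▸ hn ▸ Nat.card_le_card_of_surjective f hf)
  rcases h4.lt_or_eq with h5 | rfl
  swap
  · exact ⟨W, ⟨MulEquiv.ofBijective f (hf.bijective_of_nat_card_le (hn.trans hW.symm).le)⟩⟩
  obtain ⟨ψ, hψ⟩ := exists_E27 W
  obtain ⟨T, hT, hT'⟩ := mc.exists_gen_three h5 (ψ.range.comap f)
  have a1 := rank_closure_finset_le_card T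
  have a2 := Group.rank_le_of_surjective ((MonoidHom.ofInjective hψ).symm.toMonoidHom.comp
    ((f.subgroupComap ψ.range).comp (MulEquiv.subgroupCongr hT').toMonoidHom))
    ((MonoidHom.ofInjective hψ).symm.surjective.comp
      ((f.subgroupComap_surjective_of_surjective _ hf).comp (MulEquiv.subgroupCongr hT').surjective))
  have a3 := Nat.le_of_dvd (by positivity) (card_dvd_exponent_pow_rank'
    (Fin 3 → Multiplicative (ZMod 3)) (n := 3) cube)
  have a4 := a3.trans (Nat.pow_le_pow_right (by omega) (a2.trans (a1.trans hT)))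
  simp at a4

end Cfsg.Agent.H36.Fx
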