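import Cfsg.Agent.H36.FxB
import Cfsg.Agent.S1175
import Cfsg.Agent.S0218
import Cfsg.Agent.H18.SmallCent

/-! Permutation groups in which elements of order `p` fix at most 4 points: the reduction. -/

set_option autoImplicit false

namespace Cfsg.Agent.H36.Fx

open Cfsg Subgroup Cfsg.Agent.H49
open scoped commutatorElement

variable {G Ω : Type*} [Group G] [MulAction G Ω]

/-- pointwise stabilizer -/
def KK (G : Type*) [Group G] [MulAction G Ω] (Δ : Set Ω) : Subgroup G where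
  carrier := {g | ∀ a ∈ Δ, g • a = a}
  mul_mem' := fun hx hy a ha => by rw [mul_smul, hy a ha, hx a ha]
  one_mem' := fun a _ => one_smul G a
  inv_mem' := fun hx a ha => by rw [inv_smul_eq_iff, hx a ha]

/-- setwise stabilizer -/
def MM (G : Type*) [Group G] [MulAction G Ω] (Δ : Set Ω) : Subgroup G where
  carrier := {g | ∀ a, g • a ∈ Δ ↔ a ∈ Δ}
  mul_mem' := fun hx hy a => by rw [mul_smul, hx, hy]
  one_mem' := fun a => by rw [one_smul]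
  inv_mem' := fun {x} hx a => by rw [← hx, smul_inv_smul]

/-- translate of a set -/
def tr (g : G) (Δ : Set Ω) : Set Ω := {a | g⁻¹ • a ∈ Δ}

variable {Δ : Set Ω} {p f : ℕ}

theorem K_le_M : KK G Δ ≤ MM G Δ := fun g hg a => by
  refine ⟨fun h => ?_, fun h => by rwa [hg a h]⟩
  have := hg _ h
  rwa [smul_left_cancel g this] at h

theorem K_tr (g : G) : KK G (tr g Δ) = cj g (KK G Δ) := by
  ext x
  rw [mem_cj]
  refine ⟨fun h a ha => ?_, fun h a ha => ?_⟩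
  · rw [mul_smul, mul_smul, h (g • a) (by simpa [tr] using ha), inv_smul_smul]
  · have := h _ ha
    rwa [mul_smul, mul_smul, smul_inv_smul, smul_left_cancel_iff] at this

theorem M_tr (g : G) : MM G (tr g Δ) = cj g (MM G Δ) := by
  ext x
  rw [mem_cj]
  refine ⟨fun h a => ?_, fun h a => ?_⟩
  · have := h (g • a)
    simpa [tr, mul_smul] using this
  · have := h (g⁻¹ • a)
    simpa [tr, mul_smul] using this

theorem tr_eq {g : G} (h : g ∈ MM G Δ) : tr g Δ = Δ := Set.ext fun a => inv_mem h a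

theorem M_norm : MM G Δ ≤ 𝒩(KK G Δ) := fun g hg => mem_norm_iff_cj.2 (by rw [← K_tr, tr_eq hg])

theorem ncard_tr (g : G) : (tr g Δ).ncard = Δ.ncard :=
  Set.ncard_congr (fun a _ => g⁻¹ • a) (fun _ h => h) (fun _ _ _ _ h => smul_left_cancel _ h)
    fun b hb => ⟨g • b, by simpa [tr] using hb, inv_smul_smul g b⟩

theorem exists_rho [Finite Ω] (h : Δ.ncard ≤ f) : ∃ ρ : MM G Δ →* Equiv.Perm (Fin f),
    (∀ g, ρ g = 1 ↔ g.1 ∈ KK G Δ) ∧
      ∀ i, (∀ g, ρ g i = i) ∨ ∃ δ : Ω, ∀ g, ρ g i = i → g.1 • δ = δ := by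
  have := Fintype.ofFinite Δ
  obtain ⟨ι⟩ : Nonempty (Δ ↪ Fin f) := Function.Embedding.nonempty_of_card_le (by
    rwa [Fintype.card_fin, ← Nat.card_eq_fintype_card, Nat.card_coe_set_eq])
  let ρ₀ : MM G Δ →* Equiv.Perm Δ := MonoidHom.mk'
    (fun g => Equiv.Perm.subtypePerm (MulAction.toPerm g.1) g.2) fun a b => by
      ext x; exact mul_smul a.1 b.1 x.1
  refine ⟨(Equiv.Perm.viaEmbeddingHom ι).comp ρ₀, fun g => ?_, fun i => ?_⟩
  · rw [MonoidHom.comp_apply, map_eq_one_iff _ (Equiv.Perm.viaEmbeddingHom_injective ι)]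
    exact ⟨fun e a ha => congrArg Subtype.val (Equiv.congr_fun e ⟨a, ha⟩),
      fun e => Equiv.ext fun a => Subtype.ext (e a.1 a.2)⟩
  · by_cases hi : i ∈ Set.range ι
    · obtain ⟨δ, rfl⟩ := hi
      refine Or.inr ⟨δ, fun g hg => ?_⟩
      rw [MonoidHom.comp_apply, Equiv.Perm.viaEmbeddingHom_apply,
        Equiv.Perm.viaEmbedding_apply] at hg
      exact congrArg Subtype.val (ι.injective hg)
    · exact Or.inl fun g => Equiv.Perm.viaEmbedding_apply_of_notMem _ ι i hi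

theorem relIndex_eq {ρ : MM G Δ →* Equiv.Perm (Fin f)} (hρ : ∀ g, ρ g = 1 ↔ g.1 ∈ KK G Δ)
    {Y : Subgroup G} (hY : Y ≤ MM G Δ) :
    (KK G Δ).relIndex Y = Nat.card ((Y.subgroupOf (MM G Δ)).map ρ) := by
  rw [← relIndex_ker, ← relIndex_subgroupOf hY]
  congr 1
  ext g
  exact (hρ g).symm

theorem idx_dvd [Finite Ω] (h : Δ.ncard ≤ f) {Y : Subgroup G} (hY : Y ≤ MM G Δ) :
    (KK G Δ).relIndex Y ∣ f.factorial := by
  obtain ⟨ρ, hρ, -⟩ := exists_rho (G := G) h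
  have := card_subgroup_dvd_card ((Y.subgroupOf (MM G Δ)).map ρ)
  rwa [← relIndex_eq hρ hY, Nat.card_perm, Nat.card_fin] at this

theorem idx_le [Finite G] [Finite Ω] [hp : Fact p.Prime] (h : Δ.ncard ≤ f) {Y : Subgroup G}
    (hY : Y ≤ MM G Δ) (hP : IsPGroup p Y) {k : ℕ} (hk : ¬ p ^ (k + 1) ∣ f.factorial) :
    (KK G Δ).relIndex Y ∣ p ^ k := by
  obtain ⟨j, hj⟩ := hP.index ((KK G Δ).subgroupOf Y)
  have := idx_dvd h hY
  rw [relIndex, hj] at this ⊢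
  exact pow_dvd_pow p (by
    by_contra c
    exact hk ((pow_dvd_pow p (by omega)).trans this))

theorem perm4 : ∀ a : Equiv.Perm (Fin 4), a * a = 1 ∧ Equiv.Perm.sign a = 1 ∨
    (Finset.univ.filter fun b => b * a = a * b).card ≤ 4 := by decide +kernel

theorem perm4' : (Finset.univ.filter fun a : Equiv.Perm (Fin 4) =>
    a * a = 1 ∧ Equiv.Perm.sign a = 1).card ≤ 4 := by decide +kernel

theorem ab_le [Finite Ω] (h : Δ.ncard ≤ 4) {Y : Subgroup G} (hY : Y ≤ MM G Δ)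
    (hc : ∀ a ∈ Y, ∀ b ∈ Y, ⁅a, b⁆ ∈ KK G Δ) : (KK G Δ).relIndex Y ≤ 4 := by
  classical
  obtain ⟨ρ, hρ, -⟩ := exists_rho (G := G) h
  rw [relIndex_eq hρ hY]
  have key : ∀ s : Finset (Equiv.Perm (Fin 4)), s.card ≤ 4 →
      (∀ a ∈ (Y.subgroupOf (MM G Δ)).map ρ, a ∈ s) → Nat.card ((Y.subgroupOf (MM G Δ)).map ρ) ≤ 4 :=
    fun s hs h => le_trans (Nat.card_le_card_of_injective (β := s) (fun a => ⟨a, h a a.2⟩)
      fun a b e => Subtype.ext (congrArg (fun t : s => t.1) e)) (by simpa using hs)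
  by_cases h1 : ∀ a ∈ (Y.subgroupOf (MM G Δ)).map ρ, a * a = 1 ∧ Equiv.Perm.sign a = 1
  · exact key _ perm4' fun a ha => by simpa using h1 a ha
  push Not at h1
  obtain ⟨_, ⟨a, ha, rfl⟩, h2⟩ := h1
  refine key _ ((perm4 (ρ a)).resolve_left fun e => h2 e.1 e.2) ?_
  rintro _ ⟨b, hb, rfl⟩
  simp only [Finset.mem_filter, Finset.mem_univ, true_and]
  rw [← commutatorElement_eq_one_iff_mul_comm, ← map_commutatorElement, hρ]
  exact hc b hb a ha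

theorem perm3 : ∀ m x : Equiv.Perm (Fin 4), x ^ 3 = 1 → x ≠ 1 → ⁅m * x * m⁻¹, x⁆ = 1 →
    (m ^ 3 = 1 ∧ x⁻¹ * (m * x * m⁻¹) = 1) ∨ (m ^ 2 = 1 ∧ m ≠ 1 ∧ ∃ i, x i ≠ i ∧ m i = i) := by
  decide +kernel

theorem three [Finite Ω] (h : Δ.ncard ≤ 4) (ho : ∀ (g : G) (a : Ω), g • a = a → Odd (orderOf g))
    {m x : G} (hm : m ∈ MM G Δ) (hx : x ∈ MM G Δ) (hx' : x ∉ KK G Δ) (h3 : x ^ 3 ∈ KK G Δ)
    (hc : ⁅m * x * m⁻¹, x⁆ ∈ KK G Δ) : m ^ 3 ∈ KK G Δ ∧ x⁻¹ * (m * x * m⁻¹) ∈ KK G Δ := by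
  obtain ⟨ρ, hρ, hρ'⟩ := exists_rho (G := G) h
  rcases perm3 (ρ ⟨m, hm⟩) (ρ ⟨x, hx⟩) (by rw [← map_pow, hρ]; exact h3) (fun e => hx' ((hρ _).1 e))
    (by rw [← map_inv, ← map_mul, ← map_mul, ← map_commutatorElement, hρ]; exact hc) with
    ⟨a, b⟩ | ⟨a, b, i, c, d⟩
  · rw [← map_pow, hρ] at a
    rw [← map_inv, ← map_inv, ← map_mul, ← map_mul, ← map_mul, hρ] at b
    exact ⟨a, b⟩
  obtain ⟨δ, hδ⟩ := (hρ' i).resolve_left fun e => c (e _)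
  obtain ⟨k, hk⟩ := ho m δ (hδ _ d)
  refine (b ?_).elim
  have e : (⟨m, hm⟩ : MM G Δ) ^ (2 * k + 1) = 1 := Subtype.ext (hk ▸ pow_orderOf_eq_one m)
  have := congrArg ρ e
  rwa [map_pow, pow_succ, pow_mul, a, one_pow, one_mul, map_one] at this

/-- `Δ` is the fixed point set of every element of order `p` fixing it pointwise. -/
structure Good (G : Type*) [Group G] [MulAction G Ω] (p f : ℕ) (Δ : Set Ω) : Prop where
  ne : Δ.Nonempty
  card : Δ.ncard ≤ f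
  fix : ∀ y ∈ KK G Δ, orderOf y = p → ∀ a, y • a = a → a ∈ Δ
  ex : ∃ y ∈ KK G Δ, orderOf y = p

theorem orderOf_cj (g y : G) : orderOf (g * y * g⁻¹) = orderOf y :=
  (MulAut.conj g).orderOf_eq y

theorem good_of [Finite Ω] {x : G} (hx : orderOf x = p) (hne : (MulAction.fixedBy Ω x).Nonempty)
    (hf : Nat.card (MulAction.fixedBy Ω x) ≤ f)
    (hm : ∀ y : G, orderOf y = p → Nat.card (MulAction.fixedBy Ω y) ≤
      Nat.card (MulAction.fixedBy Ω x)) : Good G p f (MulAction.fixedBy Ω x) :=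
  ⟨hne, hf, fun y hy ho _ ha => (Set.eq_of_subset_of_ncard_le (fun b hb => hy b hb)
    (hm y ho) (Set.toFinite _)).ge ha, x, fun _ ha => ha, hx⟩

namespace Good

theorem mono (h : Good G p f Δ) {f' : ℕ} (hf : f ≤ f') : Good G p f' Δ :=
  ⟨h.ne, h.card.trans hf, h.fix, h.ex⟩

theorem conj (h : Good G p f Δ) (g : G) : Good G p f (tr g Δ) where
  ne := by
    obtain ⟨a, ha⟩ := h.ne
    exact ⟨g • a, by simpa [tr] using ha⟩
  card := by rw [ncard_tr]; exact h.card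
  fix := fun y hy ho a ha => by
    rw [K_tr, mem_cj] at hy
    refine h.fix _ hy (by simpa [ho] using orderOf_cj g⁻¹ y) _ ?_
    rw [mul_smul, mul_smul, smul_inv_smul, ha]
  ex := by
    obtain ⟨y, hy, ho⟩ := h.ex
    exact ⟨g * y * g⁻¹, K_tr (Δ := Δ) g ▸ conj_mem_cj.2 hy, by rw [orderOf_cj, ho]⟩

theorem ti (h : Good G p f Δ) {y g : G} (hy : y ∈ KK G Δ) (ho : orderOf y = p)
    (hg : g * y * g⁻¹ ∈ KK G Δ) : g ∈ MM G Δ := fun a =>
  ⟨fun ha => h.fix y hy ho a (by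
    have := hg _ ha
    rwa [mul_smul, mul_smul, inv_smul_smul, smul_left_cancel_iff] at this),
  fun ha => h.fix _ hg (by rw [orderOf_cj, ho]) _ (by
    rw [mul_smul, mul_smul, inv_smul_smul, hy a ha])⟩

variable [Finite G] [hp : Fact p.Prime]

omit [MulAction G Ω] in
theorem exists_pow {V : Subgroup G} (hV : IsPGroup p V) {y : G} (hy : y ∈ V) (y1 : y ≠ 1) :
    ∃ k : ℕ, orderOf (y ^ k) = p := by
  obtain ⟨j, hj⟩ := IsPGroup.iff_orderOf.1 hV ⟨y, hy⟩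
  rw [← orderOf_coe] at hj
  exact ⟨_, orderOf_pow_orderOf_div (orderOf_pos y).ne' (hj ▸ dvd_pow_self p fun e => y1 (by
    rw [e, pow_zero] at hj
    exact orderOf_eq_one_iff.1 hj))⟩

theorem ti' (h : Good G p f Δ) {V : Subgroup G} (hV : IsPGroup p V) {y g : G} (hy : y ∈ V ⊓ KK G Δ)
    (y1 : y ≠ 1) (hg : g * y * g⁻¹ ∈ KK G Δ) : g ∈ MM G Δ := by
  obtain ⟨k, hk⟩ := exists_pow hV hy.1 y1
  exact h.ti (pow_mem hy.2 k) hk (by rw [← conj_pow]; exact pow_mem hg k)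

variable [Finite Ω]

theorem card_le (h : Good G p f Δ) {V : Subgroup G} (hV : IsPGroup p V) (hK : V ≤ KK G Δ) {g : G}
    (hg : g ∉ MM G Δ) (hM : V ≤ cj g (MM G Δ)) : Nat.card V ≤ f := by
  obtain ⟨d, hd, hd'⟩ : ∃ d ∈ tr g Δ, d ∉ Δ := by
    by_contra! c
    have e := Set.eq_of_subset_of_ncard_le c (ncard_tr g).ge (Set.toFinite _)
    refine hg fun a => ?_
    conv_lhs => rw [← e]
    simp [tr]
  rw [← M_tr] at hM
  refine le_trans (Nat.card_le_card_of_injective (β := tr g Δ)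
    (fun v => ⟨v.1 • d, (hM v.2 d).2 hd⟩) fun a b e => ?_) (by
      rw [Nat.card_coe_set_eq, ncard_tr]; exact h.card)
  by_contra c
  have m := mul_mem (inv_mem b.2) a.2
  obtain ⟨k, hk⟩ := exists_pow hV m fun e' => c (Subtype.ext (inv_mul_eq_one.1 e').symm)
  refine hd' (h.fix _ (pow_mem (hK m) k) hk d ?_)
  refine (MulAction.stabilizer G d).pow_mem ?_ k
  change _ • d = d
  rw [mul_smul, inv_smul_eq_iff]
  exact congrArg Subtype.val e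

omit [Finite G] hp [Finite Ω] in
theorem ne_top [IsSimpleGroup G] [FaithfulSMul G Ω] (ht : MulAction.IsPretransitive G Ω)
    (h : Good G p f Δ) (hp : p ≠ 1) : MM G Δ ≠ ⊤ := fun e => by
  obtain ⟨a, ha⟩ := h.ne
  obtain ⟨y, hy, ho⟩ := h.ex
  refine hp (ho ▸ orderOf_eq_one_iff.2 (eq_of_smul_eq_smul (α := Ω) fun b => ?_))
  obtain ⟨g, rfl⟩ := ht.exists_smul_eq a b
  rw [one_smul]
  exact hy _ ((e.ge (mem_top g) a).2 ha)

end Good

variable [Finite G] [Finite Ω] [hp : Fact p.Prime] {S : Subgroup G}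

/-- the non strongly closed configuration -/
structure Gam (S : Subgroup G) (p f : ℕ) (Δ : Set Ω) : Prop where
  good : Good G p f Δ
  ex : ∃ y ∈ S ⊓ KK G Δ, orderOf y = p
  card : Nat.card ↥(S ⊓ KK G Δ) ≤ f
  ex' : ∃ y ∈ S ⊓ MM G Δ, orderOf y = p ∧ y ∉ KK G Δ

theorem gam_of (hS : IsPGroup p S) (h : Good G p f Δ) {y : G} (hy : y ∈ S ⊓ KK G Δ)
    (ho : orderOf y = p) (hn : ¬ S ≤ MM G Δ) : Gam S p f Δ := by
  obtain ⟨s, hs, hs'⟩ := SetLike.exists_of_lt (lt_inf_norm_of_nilpotent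
    (isPi_of_isPGroup hp.out hS).nilpotent (inf_lt_left.2 hn))
  have h1 : s ∉ MM G Δ := fun c => hs' ⟨hs.1, c⟩
  refine ⟨h, ⟨y, hy, ho⟩, h.card_le (hS.to_le inf_le_left) inf_le_right h1 ?_, s * y * s⁻¹,
    conj_mem_of_norm le_rfl hs.2 ⟨hy.1, K_le_M hy.2⟩, by rw [orderOf_cj, ho],
    fun c => h1 (h.ti hy.2 ho c)⟩
  refine (inf_le_inf_left S K_le_M).trans ?_
  rw [← cj_eq_of_mem_norm hs.2]
  exact cj_mono s inf_le_right

omit [MulAction G Ω] [Finite Ω] in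
theorem into {M : Subgroup G} (hS : IsSylowOf p S M) {y : G} (hy : y ∈ M) (ho : orderOf y = p) :
    ∃ g ∈ M, g * y * g⁻¹ ∈ S := by
  obtain ⟨g, hg, h⟩ := sylowOf_subJ hS (zpowers_le.2 hy) (isPi_of_isPGroup hp.out
    (IsPGroup.of_card (n := 1) (by rw [Nat.card_zpowers, ho, pow_one])))
  exact ⟨g, hg, h (conj_mem_cj.2 (mem_zpowers y))⟩

theorem red (hS : IsSylowOf p S ⊤) {Δ₀ : Set Ω} (h₀ : Good G p f Δ₀) :
    (∃ Δ : Set Ω, Good G p f Δ ∧ S ≤ MM G Δ ∧ S ⊓ KK G Δ ≠ ⊥ ∧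
      ∀ y ∈ KK G Δ, orderOf y = p → ∀ g, g * y * g⁻¹ ∈ MM G Δ → g ∈ MM G Δ) ∨
    ∃ Δ : Set Ω, Gam S p f Δ := by
  have hP := hS.pi.isPGroup hp.out
  obtain ⟨y₀, hy₀, ho₀⟩ := h₀.ex
  obtain ⟨g₀, -, hg₀⟩ := into hS (mem_top y₀) ho₀
  have h := h₀.conj g₀
  have hy : g₀ * y₀ * g₀⁻¹ ∈ S ⊓ KK G (tr g₀ Δ₀) := ⟨hg₀, K_tr (Δ := Δ₀) g₀ ▸ conj_mem_cj.2 hy₀⟩
  have ho := (orderOf_cj g₀ y₀).trans ho₀
  generalize g₀ * y₀ * g₀⁻¹ = z at hy ho
  generalize tr g₀ Δ₀ = Δ at h hy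
  by_cases hn : S ≤ MM G Δ
  swap
  · exact Or.inr ⟨Δ, gam_of hP h hy ho hn⟩
  by_cases sc : ∀ y ∈ KK G Δ, orderOf y = p → ∀ g, g * y * g⁻¹ ∈ MM G Δ → g ∈ MM G Δ
  · exact Or.inl ⟨Δ, h, hn, ne_bot_iff_exists.2 ⟨z, hy, fun e => hp.out.ne_one (by
      rw [← ho, e, orderOf_one])⟩, sc⟩
  push Not at sc
  obtain ⟨y, hyK, hyo, g, hg, hg'⟩ := sc
  obtain ⟨m, hm, hm'⟩ := into (hS.sub hn le_top) hg ((orderOf_cj g y).trans hyo)
  have e : m * (g * y * g⁻¹) * m⁻¹ = m * g * y * (m * g)⁻¹ := by group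
  have h1 : m * g ∉ MM G Δ := fun c => hg' (((MM G Δ).mul_mem_cancel_left hm).1 c)
  rw [e] at hm'
  have h2 := (orderOf_cj (m * g) y).trans hyo
  right
  by_cases hn' : S ≤ MM G (tr (m * g) Δ)
  · exact ⟨Δ, h, ⟨z, hy, ho⟩, h.card_le (hP.to_le inf_le_left) inf_le_right h1
      (inf_le_left.trans (M_tr (Δ := Δ) (m * g) ▸ hn')), _, ⟨hm', hn hm'⟩, h2,
      fun c => h1 (h.ti hyK hyo c)⟩
  · exact ⟨_, gam_of hP (h.conj (m * g)) ⟨hm', K_tr (Δ := Δ) (m * g) ▸ conj_mem_cj.2 hyK⟩ h2 hn'⟩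

omit [MulAction G Ω] [Finite Ω] in
theorem exists_z {K : Subgroup G} (hS : IsPGroup p S) (hn : S ≤ 𝒩(K)) (h : S ⊓ K ≠ ⊥) :
    ∃ z ∈ S ⊓ K, orderOf z = p ∧ S ≤ 𝒞[z] := by
  have := normal_subgroupOf hn
  obtain ⟨z, hz, hz', ho⟩ := H3.exists_mem_center_orderOf_eq hS (K.subgroupOf S)
    (by rwa [Ne, subgroupOf_eq_bot, disjoint_iff, inf_comm])
  exact ⟨z, ⟨z.2, hz⟩, (orderOf_coe z).trans ho, fun g hg =>
    mem_cent1.2 (congrArg Subtype.val (mem_center_iff.1 hz' ⟨g, hg⟩))⟩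

end Cfsg.Agent.H36.Fx
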