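import Cfsg.Agent.H36.FxC

/-! Permutation groups in which elements of order `p` fix at most 4 points: `p = 2` and `p = 3`. -/

set_option autoImplicit false

namespace Cfsg.Agent.H36.Fx

open Cfsg Subgroup Cfsg.Agent.H49
open scoped commutatorElement

variable {G Ω : Type*} [Group G] [MulAction G Ω] [Finite G] [Finite Ω] {Δ : Set Ω} {f : ℕ}

omit [Finite Ω] in
theorem sc_two [IsSimpleGroup G] (S : Sylow 2 G) (h : Good G 2 f Δ) (hM : MM G Δ ≠ ⊤)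
    (hS : (S : Subgroup G) ≤ MM G Δ) (hK : (S : Subgroup G) ⊓ KK G Δ ≠ ⊥)
    (sc : ∀ y ∈ KK G Δ, orderOf y = 2 → ∀ g, g * y * g⁻¹ ∈ MM G Δ → g ∈ MM G Δ) :
    ∃ H : Subgroup G, IsStronglyEmbedded H := by
  obtain ⟨z, hz, ho, hc⟩ := exists_z S.isPGroup' (hS.trans M_norm) hK
  have cent : ∀ y ∈ KK G Δ, orderOf y = 2 → 𝒞[y] ≤ MM G Δ := fun y hy ho g hg =>
    h.ti hy ho (by rwa [mem_cent1.1 hg, mul_inv_cancel_right])
  refine S1175.result (MM G Δ) hM z ho (K_le_M hz.2) ⟨S, hz.1, fun s hs => mem_cent1.1 (hc hs)⟩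
    (sc z hz.2 ho) fun g h1 h2 => ?_
  have h3 := conj_mem_of_norm M_norm (sc z hz.2 ho g (cent z hz.2 ho (mem_cent1.2 h1.symm))) hz.2
  have z2 : z ^ 2 = 1 := ho ▸ pow_orderOf_eq_one z
  refine cent _ (mul_mem hz.2 h3) (orderOf_eq_prime (by rw [h1.mul_pow, conj_pow, z2]; simp)
    fun e => h2 ?_)
  rw [eq_inv_of_mul_eq_one_right e, inv_eq_of_mul_eq_one_right (pow_two z ▸ z2)]

omit [Finite G] in
theorem card_cent_sub {S : Subgroup G} (x : S) : Nat.card 𝒞[x] = Nat.card ↥(S ⊓ 𝒞[(x : G)]) := by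
  rw [inf_comm, ← card_subgroupOf]
  congr 3
  ext y
  simp [mem_cent1, mem_subgroupOf, Subtype.ext_iff]

theorem Gam.card_N {p : ℕ} [Fact p.Prime] {S : Subgroup G} (hS : IsPGroup p S) (h : Gam S p f Δ)
    {a b : ℕ} (ha : f < p ^ (a + 1)) (hb : ¬ p ^ (b + 1) ∣ f.factorial) :
    Nat.card ↥(S ⊓ KK G Δ) ≤ p ^ a ∧ Nat.card ↥(S ⊓ MM G Δ) ≤ p ^ a * p ^ b := by
  have h1 : Nat.card ↥(S ⊓ KK G Δ) ≤ p ^ a := by
    by_contra c
    have := (pw (hS.to_le (inf_le_left : S ⊓ KK G Δ ≤ S)) a (not_le.1 c)).trans h.card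
    omega
  refine ⟨h1, ?_⟩
  rw [← card_inf_mul_relIndex (KK G Δ), inf_left_comm, inf_eq_left.2 K_le_M]
  exact Nat.mul_le_mul h1 (Nat.le_of_dvd (pow_pos (Fact.out : p.Prime).pos b)
    (idx_le h.good.card inf_le_right (hS.to_le inf_le_left) hb))

theorem gam_three (S : Sylow 2 G) (h : Gam (S : Subgroup G) 2 3 Δ) :
    (∃ n : ℕ, Nonempty ((S : Subgroup G) ≃* DihedralGroup n)) ∨ IsQuasiDihedral (S : Subgroup G) := by
  classical
  obtain ⟨r, hr, ho⟩ := h.ex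
  obtain ⟨y, hy, ho', hy'⟩ := h.ex'
  have h1 := (h.card_N S.isPGroup' (a := 1) (b := 1) (by omega) (by decide)).2
  have o1 : orderOf (⟨r, hr.1⟩ : (S : Subgroup G)) = 2 := (orderOf_mk r hr.1).trans ho
  have o2 : orderOf (⟨y, hy.1⟩ : (S : Subgroup G)) = 2 := (orderOf_mk y hy.1).trans ho'
  have ne : (⟨r, hr.1⟩ : (S : Subgroup G)) ≠ ⟨y, hy.1⟩ := fun e =>
    hy' ((show r = y from congrArg Subtype.val e) ▸ hr.2)
  rcases H18.two_group_cases S.isPGroup' ⟨r, hr.1⟩ (by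
    rw [card_cent_sub]
    refine (card_le_of_le (inf_le_inf_left _ fun g hg => h.good.ti hr.2 ho ?_)).trans h1
    rw [mem_cent1.1 hg, mul_inv_cancel_right]; exact hr.2) with c | ⟨n, -, c⟩ | ⟨n, ⟨e⟩⟩ | c
  · have := Fintype.ofFinite (S : Subgroup G)
    have h2 := IsCyclic.card_orderOf_eq_totient (α := (S : Subgroup G)) (d := 2)
      (o1.symm.dvd.trans orderOf_dvd_card)
    exact (ne (Finset.card_le_one.1 h2.le _ (by simpa using o1) _ (by simpa using o2))).elim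
  · exact Or.inl ⟨n, c⟩
  · have := (Nat.card_eq_one_iff_unique.1 (S0218.result n)).1
    exact (ne (e.injective (congrArg Subtype.val (this.elim ⟨e _, (e.orderOf_eq _).trans o1⟩
      ⟨e _, (e.orderOf_eq _).trans o2⟩)))).elim
  · exact Or.inr c

theorem gam_four (S : Sylow 2 G) (h : Gam (S : Subgroup G) 2 4 Δ) : SectionalPRankLE 2 4 G := by
  refine S1235.of_sylow S ?_
  have hS := S.isPGroup'
  have c4 : Nat.card ((KK G Δ).subgroupOf S) ≤ 4 := by rw [card_subgroupOf, inf_comm]; exact h.card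
  have ab : ∀ Y ≤ (MM G Δ).subgroupOf S, (∀ a ∈ Y, ∀ b ∈ Y, ⁅a, b⁆ ∈ (KK G Δ).subgroupOf S) →
      ((KK G Δ).subgroupOf S).relIndex Y ≤ 4 := fun Y hY hc => by
    have := ab_le h.good.card (Y := Y.map (Subgroup.subtype _)) (map_le_iff_le_comap.2 hY) (by
      rintro _ ⟨a, ha, rfl⟩ _ ⟨b, hb, rfl⟩
      exact hc a ha b hb)
    rwa [← relIndex_comap] at this
  have idx : ((KK G Δ).subgroupOf S).relIndex ((MM G Δ).subgroupOf S) ≤ 8 := by
    have := Nat.le_of_dvd (by omega) (idx_le (p := 2) h.good.card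
      (Y := ((MM G Δ).subgroupOf S).map (Subgroup.subtype _)) (map_le_iff_le_comap.2 le_rfl)
      (hS.to_le (map_subtype_le _)) (k := 3) (by decide))
    rwa [← relIndex_comap] at this
  by_cases hn : (MM G Δ).subgroupOf S = ⊤
  · rw [hn] at ab idx
    refine alpha hS c4 (by simpa using idx) fun hc => ?_
    simpa using ab ⊤ le_rfl fun a _ b _ => by
      rw [commutatorElement_eq_one_iff_mul_comm.2 (hc a b)]; exact one_mem _
  obtain ⟨r, hr, ho⟩ := h.ex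
  refine TI.main (R := (KK G Δ).subgroupOf S) ⟨hS, comap_mono K_le_M, le_norm_iff.2 fun a ha x hx =>
    conj_mem_of_norm M_norm ha hx, ne_bot_iff_exists.2 ⟨⟨r, hr.1⟩, hr.2, fun e => ?_⟩,
    fun r hr r1 g hg => h.good.ti' hS ⟨r.2, hr⟩ (fun e => r1 (Subtype.ext e)) hg, idx, ab, c4⟩ hn
  rw [show r = 1 from congrArg Subtype.val e, orderOf_one] at ho
  omega

theorem img3 (h : Δ.ncard ≤ 4) {Y : Subgroup G} (hY : Y ≤ MM G Δ) (hP : IsPGroup 3 Y) {a b : G}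
    (ha : a ∈ Y) (hb : b ∈ Y) : a ^ 3 ∈ KK G Δ ∧ ⁅a, b⁆ ∈ KK G Δ := by
  have : Fact (Nat.Prime 3) := ⟨Nat.prime_three⟩
  have := normal_subgroupOf (hY.trans M_norm)
  have h1 : Nat.card (Y ⧸ (KK G Δ).subgroupOf Y) ∣ 3 := idx_le h hY hP (k := 1) (by decide)
  have h2 := isCyclic_of_card_dvd_prime h1
  refine ⟨(QuotientGroup.eq_one_iff ((⟨a, ha⟩ : Y) ^ 3)).1
    (orderOf_dvd_iff_pow_eq_one.1 ((orderOf_dvd_natCard
      ((⟨a, ha⟩ : Y) : Y ⧸ (KK G Δ).subgroupOf Y)).trans h1)),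
    (QuotientGroup.eq_one_iff (N := (KK G Δ).subgroupOf Y) ⁅(⟨a, ha⟩ : Y), (⟨b, hb⟩ : Y)⁆).1 ?_⟩
  change QuotientGroup.mk' _ _ = 1
  rw [map_commutatorElement, commutatorElement_eq_one_iff_mul_comm]
  exact IsCyclic.isMulCommutative.is_comm.comm _ _

theorem sc_three (hG : commutator G = ⊤) (P : Sylow 3 G) (h : Good G 3 4 Δ)
    (ho : ∀ (g : G) (a : Ω), g • a = a → Odd (orderOf g))
    (hS : (P : Subgroup G) ≤ MM G Δ) (hK : (P : Subgroup G) ⊓ KK G Δ ≠ ⊥)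
    (sc : ∀ y ∈ KK G Δ, orderOf y = 3 → ∀ g, g * y * g⁻¹ ∈ MM G Δ → g ∈ MM G Δ) :
    3 ∣ Nat.card (MM G Δ) ∧ ∀ g ∉ MM G Δ, ¬ 3 ∣ Nat.card ↥(MM G Δ ⊓ cj g (MM G Δ)) := by
  have : Fact (Nat.Prime 3) := ⟨Nat.prime_three⟩
  have hP := sylowOf_top Nat.prime_three P
  obtain ⟨z, hz, zo, hc⟩ := exists_z P.isPGroup' (hS.trans M_norm) hK
  have hZ : IsPi {3} (zpowers z) := hP.pi.of_le (zpowers_le.2 hz.1)
  have h1 := focal_le Nat.prime_three (K := KK G Δ) hP fun a ha g _ ha' => by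
    obtain ⟨D, hD, h4⟩ := exists_sylowOf_ge hZ (zpowers_le.2 (mem_cent1_comm.1 (hc ha')))
    obtain ⟨c, hc', h5⟩ := sylowOf_subJ hD (X := cj g (zpowers z)) (by
      rw [← cj_cent1]; exact cj_mono g (zpowers_le.2 (mem_cent1_comm.1 (hc ha)))) (hZ.cj g)
    obtain ⟨k, -, h6⟩ := sylowOf_subJ hP le_top hD.pi
    have k1 := sc z hz.2 zo k (hS (h6 (conj_mem_cj.2 (h4 (mem_zpowers z)))))
    have k2 := sc z hz.2 zo (k * (c * g)) (hS (h6 (by
      rw [show k * (c * g) * z * (k * (c * g))⁻¹ = k * (c * (g * z * g⁻¹) * c⁻¹) * k⁻¹ by group]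
      exact conj_mem_cj.2 (h5 (conj_mem_cj.2 (conj_mem_cj.2 (mem_zpowers z)))))))
    have k3 := ((MM G Δ).mul_mem_cancel_left k1).1 k2
    have e : g * a * g⁻¹ = c * g * a * (c * g)⁻¹ := by
      calc _ = c * (g * a * g⁻¹) * c⁻¹ := by rw [mem_cent1.1 hc', mul_inv_cancel_right]
        _ = _ := by group
    rw [e] at ha' ⊢
    by_cases aK : a ∈ KK G Δ
    · exact mul_mem (inv_mem aK) (conj_mem_of_norm M_norm k3 aK)
    · exact (three h.card ho k3 (hS ha) aK (img3 h.card hS P.isPGroup' ha ha).1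
        (img3 h.card hS P.isPGroup' ha' ha).2).2
  rw [← commutator_def, hG, inf_top_eq] at h1
  refine ⟨zo ▸ orderOf_dvd_natCard _ (hS hz.1), fun g hg c => hg ?_⟩
  obtain ⟨⟨y, hy⟩, yo⟩ := exists_prime_orderOf_dvd_card' 3 c
  rw [orderOf_mk] at yo
  obtain ⟨y, hy', rfl⟩ := mem_cj'.1 hy.2
  rw [orderOf_cj] at yo
  obtain ⟨m, hm, hm'⟩ := into (hP.sub hS le_top) hy' yo
  exact sc y (by simpa [mul_assoc] using conj_mem_of_norm' M_norm hm (h1 hm')) yo g hy.1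

omit [MulAction G Ω] [Finite Ω] in
theorem two_gen {N : Subgroup G} (hN : IsPGroup 3 N) (h9 : Nat.card N ≤ 9) {y y' : G} (hy : y ∈ N)
    (hy' : y' ∈ N) (o : orderOf y = 3) (o' : orderOf y' = 3) (hn : y' ∉ zpowers y) :
    Nat.card N = 9 ∧ ∀ a ∈ N, a ^ 3 = 1 := by
  have : Fact (Nat.Prime 3) := ⟨Nat.prime_three⟩
  have key : ∀ O ≤ N, y ∈ O → y' ∈ O → 9 ≤ Nat.card O := fun O hO a b => by
    have := H4.mul_card_le_of_lt (hN.to_le hO) (lt_of_le_of_ne (zpowers_le.2 a) fun e => hn (e ▸ b))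
    rwa [Nat.card_zpowers, o] at this
  have h1 := le_antisymm h9 (key N le_rfl hy hy')
  have hc : N ≤ 𝒞(N) := abelian_iff.1 (IsPGroup.isMulCommutative_of_card_eq_prime_sq (p := 3) h1)
  let O : Subgroup G :=
    { carrier := {x | x ∈ N ∧ x ^ 3 = 1}
      mul_mem' := fun {x y} hx hy => ⟨mul_mem hx.1 hy.1, by
        rw [Commute.mul_pow (hc hy.1 x hx.1), hx.2, hy.2, mul_one]⟩
      one_mem' := ⟨one_mem N, one_pow 3⟩
      inv_mem' := fun {x} hx => ⟨inv_mem hx.1, by rw [inv_pow, hx.2, inv_one]⟩ }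
  have h2 := key O (fun _ h => h.1) ⟨hy, o ▸ pow_orderOf_eq_one y⟩ ⟨hy', o' ▸ pow_orderOf_eq_one y'⟩
  exact ⟨h1, fun x hx => ((eq_of_le_of_card_ge (fun _ h => h.1 : O ≤ N) (by omega)).ge hx).2⟩

theorem gam3 (hG : commutator G = ⊤) (P : Sylow 3 G) (h : Gam (P : Subgroup G) 3 4 Δ)
    (ho : ∀ (g : G) (a : Ω), g • a = a → Odd (orderOf g)) :
    (Nat.card P = 9 ∧ ∀ x ∈ (P : Subgroup G), x ^ 3 = 1) ∨ ∃ T : Sylow 3 (Equiv.Perm (Fin 9)),
      Nonempty ((P : Subgroup G) ≃* (T : Subgroup (Equiv.Perm (Fin 9)))) := by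
  have : Fact (Nat.Prime 3) := ⟨Nat.prime_three⟩
  have hP := P.isPGroup'
  obtain ⟨x, hx, xo⟩ := h.ex
  obtain ⟨y, hy, yo, hy'⟩ := h.ex'
  have h1 := (h.card_N hP (a := 1) (b := 1) (by omega) (by decide)).2
  have h2 := two_gen (hP.to_le inf_le_left) h1 ⟨hx.1, K_le_M hx.2⟩ hy xo yo
    fun c => hy' (zpowers_le.2 hx.2 c)
  by_cases hn : (P : Subgroup G) ≤ MM G Δ
  · rw [inf_eq_left.2 hn] at h2
    exact Or.inl h2
  have cent : ∀ y ∈ KK G Δ, orderOf y = 3 → 𝒞[y] ≤ MM G Δ := fun y hy ho g hg =>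
    h.good.ti hy ho (by rwa [mem_cent1.1 hg, mul_inv_cancel_right])
  refine Or.inr (wreath hG P ⟨x, hx.1⟩ (by
    rw [card_cent_sub]; exact (card_le_of_le (inf_le_inf_left _ (cent x hx.2 xo))).trans h1)
    (h2.1.ge.trans_lt (card_lt_of_lt (inf_lt_left.2 hn))) fun g hg e => ?_)
  change g * x * g⁻¹ = x⁻¹ at e
  obtain ⟨z, hz, zo, hc⟩ := exists_z (K := ⊤) hP (le_norm_top _)
    (ne_bot_iff_exists.2 ⟨x, ⟨hx.1, mem_top x⟩, fun c => by rw [c, orderOf_one] at xo; omega⟩)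
  have h3 := (three h.good.card ho (h.good.ti hx.2 xo (by rw [e]; exact (KK G Δ).inv_mem hx.2))
    (cent x hx.2 xo (mem_cent1_comm.1 (hc hx.1))) (fun c => hn (hc.trans (cent z c zo)))
    (by rw [← zo, pow_orderOf_eq_one]; exact one_mem _) (by
      rw [commutatorElement_eq_one_iff_mul_comm.2 (mem_cent1.1 (hc
        (conj_mem_of_norm le_rfl hg hz.1)))]; exact one_mem _)).1
  obtain ⟨a, ha⟩ := h.good.ne
  obtain ⟨k, hk⟩ := ho _ a (h3 a ha)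
  have g2 : g ^ 2 ∈ 𝒞[x] := mem_cent1.2 (by
    calc _ = g * (g * x * g⁻¹) * g := by rw [pow_two]; group
      _ = g * x⁻¹ * g := by rw [e]
      _ = (g * x * g⁻¹)⁻¹ * g ^ 2 := by rw [pow_two]; group
      _ = _ := by rw [e, inv_inv])
  have g1 : g ∈ 𝒞[x] := by
    have a1 := pow_orderOf_eq_one (g ^ 3)
    rw [hk, ← pow_mul, show 3 * (2 * k + 1) = 2 * (3 * k + 1) + 1 by ring, pow_succ, pow_mul] at a1
    rw [eq_inv_of_mul_eq_one_right a1]
    exact inv_mem (pow_mem g2 _)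
  rw [mem_cent1.1 g1, mul_inv_cancel_right, eq_inv_iff_mul_eq_one, ← pow_two] at e
  have := orderOf_dvd_of_pow_eq_one e
  rw [xo] at this
  omega

end Cfsg.Agent.H36.Fx
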