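import Cfsg.Agent.H20.U3Syl

/-! The odd-order elements of `PSU₃(q)`, `q` even, centralising the centre of a Sylow 2-subgroup. -/

set_option autoImplicit false

namespace Cfsg.Agent.H36

open Subgroup Cfsg Cfsg.Agent.H10 Cfsg.Agent.H42 Cfsg.Agent.H49.U3 Matrix

variable {F : Type*} [Field F] [Fintype F] {q : ℕ} [hF : Fact (Fintype.card F = q ^ 2)]
  [CharP F 2]

local notation "σ" => H10.cj F q

theorem exists_frame_std : ∃ f : Fin 3 → F, Frame q ![1, 0, 1] ![0, 1, 0] f := by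
  obtain ⟨d, hd⟩ := exists_trace_eq (F := F) (q := q) (t := 1) (map_one _)
  have h2 : (2 : F) = 0 := CharTwo.two_eq_zero
  refine ⟨![d, 0, σ d], ?_, ?_, ?_, ?_, ?_, ?_, fun v => ?_⟩
  · simp [herm_eq, Fin.sum_univ_three, CharTwo.add_self_eq_zero]
  · simp only [herm_eq, Fin.sum_univ_three]; simp [H10.cj_cj]; linear_combination (d * σ d) * h2
  · simp [herm_eq, Fin.sum_univ_three, hd]
  · simp [herm_eq, Fin.sum_univ_three]
  · simp [herm_eq, Fin.sum_univ_three]
  · simp [herm_eq, Fin.sum_univ_three]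
  · ext i
    fin_cases i
    · simp [herm_eq, Fin.sum_univ_three, H10.cj_cj]
      linear_combination (-v 0) * hd - (v 2 * d) * h2
    · simp [herm_eq, Fin.sum_univ_three]
    · simp [herm_eq, Fin.sum_univ_three, H10.cj_cj]
      linear_combination (-v 2) * hd - (v 0 * σ d) * h2

/-- A Sylow 2-subgroup of `PSU₃(q)` together with the elements acting as `x ↦ c³ x`, `c c̄ = 1`. -/
theorem exists_um_hom_torus {c : F} (hc : c * σ c = 1) :
    ∃ (ψ : UM F q →* PSU 3 F q) (h : PSU 3 F q), Function.Injective ψ ∧ h ^ (q + 1) = 1 ∧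
      ∀ a b : UM F q, b.x = c ^ 3 * a.x → b.y = a.y → h * ψ a * h⁻¹ = ψ b := by
  obtain ⟨f, hfr⟩ := exists_frame_std (F := F) (q := q)
  have hi : IsIsom q (diagonal ![σ c, c ^ 2, σ c]) := fun u v => by
    simp [herm_eq, Fin.sum_univ_three, mulVec_diagonal, H10.cj_cj]
    linear_combination (u 0 * σ (v 0) + u 2 * σ (v 2) + (c * σ c + 1) * u 1 * σ (v 1)) * hc
  have hd : (diagonal ![σ c, c ^ 2, σ c]).det = 1 := by
    simp [Fin.prod_univ_three]
    linear_combination (c * σ c + 1) * hc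
  refine ⟨(QuotientGroup.mk' (center (SU 3 F q))).comp (UM.emb hfr),
    QuotientGroup.mk' _ (mkSU _ hi hd), ?_, ?_, fun a b hx hy => ?_⟩
  · rw [injective_iff_map_eq_one]
    intro a ha
    have h1 : UM.emb hfr a ∈ center (SU 3 F q) := (QuotientGroup.eq_one_iff _).1 ha
    have h2 := orderOf_dvd_natCard _ h1
    rw [card_center_SU (by norm_num), orderOf_injective _ (UM.emb_injective hfr)] at h2
    have h3 := Nat.dvd_gcd (h2.trans (Nat.gcd_dvd_left _ _))
      (orderOf_dvd_of_pow_eq_one (H20.um_pow_four a))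
    exact orderOf_eq_one_iff.1 (Nat.dvd_one.1 h3)
  · rw [← map_pow]
    convert map_one (QuotientGroup.mk' (center (SU 3 F q)))
    apply sm_injective
    change (diagonal ![σ c, c ^ 2, σ c]) ^ (q + 1) = 1
    have h1 : c ^ (q + 1) = 1 := by rw [← mul_cj_eq_pow, hc]
    have h2 : σ c ^ (q + 1) = 1 := by rw [← map_pow, h1, map_one]
    have h3 : (c ^ 2) ^ (q + 1) = 1 := by rw [← pow_mul, mul_comm, pow_mul, h1, one_pow]
    rw [diagonal_pow, ← diagonal_one]
    congr 1
    ext i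
    fin_cases i <;> simp [h2, h3]
  · rw [MonoidHom.comp_apply, MonoidHom.comp_apply, mul_inv_eq_iff_eq_mul, ← map_mul, ← map_mul]
    congr 1
    apply sm_injective
    change diagonal ![σ c, c ^ 2, σ c] * eich q _ (a.x • _) a.y =
      eich q _ (b.x • _) b.y * diagonal ![σ c, c ^ 2, σ c]
    rw [hx, hy]
    ext i j
    rw [diagonal_mul, mul_diagonal]
    simp only [eich, Matrix.sub_apply, Matrix.add_apply, vecMulVec_apply]
    fin_cases i <;> fin_cases j <;> simp <;>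
      first
      | ring1
      | linear_combination (-(σ c) * σ a.x * (c * σ c + 1)) * hc
      | linear_combination (-c ^ 2 * a.x) * hc

/-- In `PSU₃(q)`, `q ≥ 4` even, an element of odd order centralises an involution `t` and
acts nontrivially on a 2-subgroup of `C(t)`. -/
theorem psu3_exists_odd (h4 : 4 ≤ q) : ∃ (t h u : PSU 3 F q) (U : Subgroup (PSU 3 F q)),
    orderOf t = 2 ∧ h ^ (q + 1) = 1 ∧ h * t = t * h ∧ IsPGroup 2 U ∧ U ≤ centralizer {t} ∧ u ∈ U ∧
      h * u * h⁻¹ ∈ U ∧ h * u * h⁻¹ ≠ u := by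
  obtain ⟨a, ha⟩ := IsCyclic.exists_ofOrder_eq_natCard
    (α := (powMonoidHom (q + 1) : Fˣ →* Fˣ).ker)
  rw [card_ker_pow_succ] at ha
  set c : F := ((a : Fˣ) : F) with hc
  have hc1 : c * σ c = 1 := (mul_cj_eq_pow c).trans (congrArg Units.val a.2)
  have hc0 : c ≠ 0 := (a : Fˣ).ne_zero
  have hc3 : c ^ 3 ≠ 1 := fun h => by
    have : a ^ 3 = 1 := Subtype.ext (Units.ext h)
    have := orderOf_le_of_pow_eq_one (by norm_num) this
    omega
  obtain ⟨ψ, h, hψ, h1, h2⟩ := exists_um_hom_torus hc1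
  let z : UM F q := ⟨0, 1, by simp [CharTwo.add_self_eq_zero]⟩
  obtain ⟨u, hu⟩ := UM.exists_x (q := q) (1 : F)
  have h3 := h2 u (UM.diag (c ^ 3) (pow_ne_zero 3 hc0) u) rfl (by
    change c ^ 3 * σ (c ^ 3) * u.y = u.y
    rw [map_pow, ← mul_pow, hc1, one_pow, one_mul])
  refine ⟨ψ z, h, ψ u, ψ.range, ?_, h1, mul_inv_eq_iff_eq_mul.1 (h2 z z (by simp [z]) rfl), ?_, ?_,
    ⟨u, rfl⟩, h3 ▸ ⟨_, rfl⟩, fun e => hc3 ?_⟩
  · rw [orderOf_injective _ hψ]
    refine orderOf_eq_prime (by rw [sq]; exact UM.sq_eq_one_iff.2 rfl) fun e => ?_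
    exact one_ne_zero (congrArg UM.y e)
  · rintro ⟨_, x, rfl⟩
    exact ⟨2, Subtype.ext (by
      change ψ x ^ 4 = 1
      rw [← map_pow, H20.um_pow_four, map_one])⟩
  · rintro _ ⟨x, rfl⟩
    rw [mem_centralizer_singleton_iff, ← map_mul, ← map_mul,
      mem_center_iff.1 (UM.mem_center_iff.2 (rfl : z.x = 0)) x]
  · have := congrArg UM.x (hψ (h3.symm.trans e))
    change c ^ 3 * u.x = u.x at this
    rwa [hu, mul_one] at this

end Cfsg.Agent.H36
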